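import Cfsg.Agent.Lib.Local.M24Abelian.Normal
import Cfsg.Agent.Lib.Local.SCAbelian.Quot
import Cfsg.Agent.Lib.Lie.M24SylowQuotient
import Mathlib

/-!
The central extension: the extraspecial group of order `2 ^ 7` is normal.
-/

set_option autoImplicit false
set_option linter.style.haveILetI false
set_option maxRecDepth 100000

namespace Cfsg.Agent.Local.M24A

open Cfsg
open scoped commutatorElement

universe u

theorem card_sylow_m24 (P : Sylow 2 M24) : Nat.card (P : Subgroup M24) = 1024 := by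
  haveI : Fact (Nat.Prime 2) := ⟨Nat.prime_two⟩
  rw [P.card_eq_multiplicity, Local.FS.Mathieu.card_m24]
  simp [Nat.factorization_def _ Nat.prime_two]
  decide +kernel

theorem card_center_m24 (P : Sylow 2 M24) : Nat.card (Subgroup.center (P : Subgroup M24)) = 2 := by
  obtain ⟨C⟩ := exists_coord P
  let f : (↥(P : Subgroup M24) ⧸ Subgroup.center ↥(P : Subgroup M24)) → Fin 512 := fun s => ⟨C.c s, C.lt s⟩
  have hf : Function.Bijective f := ⟨fun a b e => C.inj (congrArg Fin.val e), fun i => by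
    obtain ⟨s, hs⟩ := C.surj i.val i.isLt
    exact ⟨s, Fin.ext hs⟩⟩
  have h := Subgroup.card_eq_card_quotient_mul_card_subgroup (Subgroup.center ↥(P : Subgroup M24))
  rw [card_sylow_m24, Nat.card_eq_of_bijective f hf, Nat.card_eq_fintype_card, Fintype.card_fin] at h
  omega

theorem extraspecial_normal {H : Type u} [Group H] [Finite H]
    (hO : Cfsg.oddCore H = ⊥) (T : Sylow 2 H) (P : Sylow 2 ↥Cfsg.M24)
    (hT : Nonempty (↥(T : Subgroup H) ≃* ↥(P : Subgroup ↥Cfsg.M24)))
    (hZ : ∀ z ∈ (T : Subgroup H), (∀ t ∈ (T : Subgroup H), z * t = t * z) → z ∈ Subgroup.center H)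
    (E : Subgroup H) (hE : E ≤ (T : Subgroup H)) (hEn : (E.subgroupOf (T : Subgroup H)).Normal)
    (hEx : Cfsg.IsExtraspecial 2 ↥E) (hE7 : Nat.card ↥E = 2 ^ 7) : E.Normal := by
  haveI : Fact (Nat.Prime 2) := ⟨Nat.prime_two⟩
  obtain ⟨e⟩ := hT
  set Z : Subgroup H := (Subgroup.center (T : Subgroup H)).map (T : Subgroup H).subtype with hZdef
  have hZc : Z ≤ Subgroup.center H := by
    rintro _ ⟨z, hz, rfl⟩
    exact hZ z z.2 fun t ht => (congrArg Subtype.val (Subgroup.mem_center_iff.1 hz ⟨t, ht⟩)).symm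
  haveI hZn : Z.Normal := ⟨fun z hz g => by
    rwa [Subgroup.mem_center_iff.1 (hZc hz) g, mul_inv_cancel_right]⟩
  have hZT : Z ≤ (T : Subgroup H) := by rintro _ ⟨z, -, rfl⟩; exact z.2
  have hZ2 : Nat.card Z = 2 := by
    rw [hZdef, Subgroup.card_map_of_injective (T : Subgroup H).subtype_injective,
      Nat.card_congr (Subgroup.centerCongr e).toEquiv, card_center_m24]
  have hZp : IsPGroup 2 Z := IsPGroup.of_card (n := 1) (by rw [hZ2, pow_one])
  -- the centre of `E` is the centre of the Sylow subgroup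
  set ZE : Subgroup H := (Subgroup.center E).map E.subtype with hZEdef
  have hZE2 : Nat.card ZE = 2 := by
    rw [hZEdef, Subgroup.card_map_of_injective E.subtype_injective, hEx.2]
  have hconjE : ∀ t ∈ (T : Subgroup H), ∀ x ∈ E, t * x * t⁻¹ ∈ E := fun t ht x hx =>
    hEn.conj_mem ⟨x, hE hx⟩ (Subgroup.mem_subgroupOf.2 hx) ⟨t, ht⟩
  have hZEZ : ZE = Z := by
    refine Subgroup.eq_of_le_of_card_ge ?_ (by rw [hZ2, hZE2])
    intro x hx
    obtain ⟨c, hc, rfl⟩ := hx
    refine ⟨⟨(c : H), hE c.2⟩, Subgroup.mem_center_iff.2 fun t => Subtype.ext ?_, rfl⟩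
    show (t : H) * (c : H) = (c : H) * t
    have hmem : ∀ y ∈ E, (t : H)⁻¹ * y * t ∈ E := fun y hy => by
      have := hconjE _ ((T : Subgroup H).inv_mem t.2) y hy
      rwa [inv_inv] at this
    -- the conjugate is central in `E`
    set d : E := ⟨(t : H) * c * (t : H)⁻¹, hconjE t t.2 c c.2⟩ with hd
    have hdc : d ∈ Subgroup.center E := Subgroup.mem_center_iff.2 fun y => Subtype.ext (by
      have h1 : (t : H)⁻¹ * y * t * c = c * ((t : H)⁻¹ * y * t) :=
        congrArg Subtype.val (Subgroup.mem_center_iff.1 hc ⟨_, hmem y y.2⟩)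
      show (y : H) * ((t : H) * c * (t : H)⁻¹) = (t : H) * c * (t : H)⁻¹ * y
      calc (y : H) * ((t : H) * c * (t : H)⁻¹) = (t : H) * ((t : H)⁻¹ * y * t * c) * (t : H)⁻¹ := by group
        _ = _ := by rw [h1]; group)
    obtain ⟨a, ha⟩ : ∃ a : Subgroup.center E, ∀ b : Subgroup.center E, b = 1 ∨ b = a := by
      classical
      haveI : Fintype (Subgroup.center E) := Fintype.ofFinite _
      have h2 : Fintype.card (Subgroup.center E) = 2 := by rw [← Nat.card_eq_fintype_card, hEx.2]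
      obtain ⟨p, q, hpq, huniv⟩ := Finset.card_eq_two.1 ((Finset.card_univ).trans h2)
      have hcase : ∀ b : Subgroup.center E, b = p ∨ b = q := fun b => by
        have := Finset.mem_univ b
        rw [huniv] at this
        simpa using this
      rcases hcase 1 with h | h
      · exact ⟨q, fun b => (hcase b).imp (fun hb => hb.trans h.symm) id⟩
      · exact ⟨p, fun b => ((hcase b).imp id (fun hb => hb.trans h.symm)).symm⟩
    have hdc' : (d : H) = c := by
      rcases ha ⟨c, hc⟩ with h | h <;> rcases ha ⟨d, hdc⟩ with h' | h'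
      · exact congrArg (fun z : Subgroup.center E => ((z : E) : H)) (h'.trans h.symm)
      · have hc1 : (c : H) = 1 := congrArg (fun z : Subgroup.center E => ((z : E) : H)) h
        show (t : H) * c * (t : H)⁻¹ = c
        rw [hc1, mul_one, mul_inv_cancel]
      · have hd1 : (t : H) * c * (t : H)⁻¹ = 1 := congrArg (fun z : Subgroup.center E => ((z : E) : H)) h'
        show (t : H) * c * (t : H)⁻¹ = c
        rw [hd1]; exact (conj_eq_one_iff.1 hd1).symm
      · exact congrArg (fun z : Subgroup.center E => ((z : E) : H)) (h'.trans h.symm)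
    exact mul_inv_eq_iff_eq_mul.1 hdc'
  have hZEle : Z ≤ E := by rw [← hZEZ]; rintro _ ⟨c, -, rfl⟩; exact c.2
  -- pass to the quotient
  set π := QuotientGroup.mk' Z with hπ
  let Tq : Sylow 2 (H ⧸ Z) := T.mapSurjective (f := π) (QuotientGroup.mk'_surjective Z)
  let g : ↥(T : Subgroup H) →* ↥(Tq : Subgroup (H ⧸ Z)) := π.subgroupMap (T : Subgroup H)
  have hgsurj : Function.Surjective g := π.subgroupMap_surjective (T : Subgroup H)
  have hgker : g.ker = Subgroup.center ↥(T : Subgroup H) := by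
    ext x
    rw [MonoidHom.mem_ker, ← Subtype.coe_inj]
    show π (x : H) = 1 ↔ _
    rw [hπ, QuotientGroup.mk'_apply, QuotientGroup.eq_one_iff]
    refine ⟨fun hx => ?_, fun hx => ⟨x, hx, rfl⟩⟩
    obtain ⟨y, hy, hyx⟩ := hx
    rwa [← Subtype.ext hyx]
  have iso : ↥(Tq : Subgroup (H ⧸ Z)) ≃* (↥(P : Subgroup M24) ⧸ Subgroup.center ↥(P : Subgroup M24)) :=
    ((QuotientGroup.quotientMulEquivOfEq hgker).symm.trans (QuotientGroup.quotientKerEquivOfSurjective g hgsurj)).symm.trans
      (QuotientGroup.congr _ _ e (by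
        ext x
        constructor
        · rintro ⟨y, hy, rfl⟩
          refine Subgroup.mem_center_iff.2 fun z => ?_
          obtain ⟨w, rfl⟩ := e.surjective z
          show e w * e y = e y * e w
          rw [← map_mul, ← map_mul, Subgroup.mem_center_iff.1 hy w]
        · intro hx
          obtain ⟨y, rfl⟩ := e.surjective x
          exact ⟨y, Subgroup.mem_center_iff.2 fun w => e.injective (by
            rw [map_mul, map_mul, Subgroup.mem_center_iff.1 hx (e w)]), rfl⟩))
  have hgood := Lie.M24Sylow.Good.of_equiv iso.symm (Lie.M24Sylow.good_sylow P)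
  set A := E.map π with hA
  have hAT : A ≤ (Tq : Subgroup (H ⧸ Z)) := Subgroup.map_mono hE
  have hAc : IsMulCommutative A := by
    refine ⟨⟨fun a b => Subtype.ext ?_⟩⟩
    obtain ⟨_, x, hx, rfl⟩ := a
    obtain ⟨_, y, hy, rfl⟩ := b
    show π x * π y = π y * π x
    rw [← map_mul, ← map_mul, hπ, QuotientGroup.mk'_apply, QuotientGroup.mk'_apply, QuotientGroup.eq]
    have h1 : ⁅(⟨y⁻¹, E.inv_mem hy⟩ : E), (⟨x⁻¹, E.inv_mem hx⟩ : E)⁆ ∈ Subgroup.center E := by
      rw [← hEx.1.2.2]
      exact Subgroup.commutator_mem_commutator (Subgroup.mem_top _) (Subgroup.mem_top _)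
    have h2 : y⁻¹ * x⁻¹ * (y⁻¹)⁻¹ * (x⁻¹)⁻¹ ∈ Z := hZEZ ▸ (⟨_, h1, rfl⟩ : _ ∈ ZE)
    rwa [inv_inv, inv_inv, show y⁻¹ * x⁻¹ * y * x = (x * y)⁻¹ * (y * x) by group] at h2
  have hA64 : Nat.card A = 64 := by
    have h1 := Subgroup.card_eq_card_quotient_mul_card_subgroup (π.subgroupMap E).ker
    rw [Nat.card_congr (QuotientGroup.quotientKerEquivOfSurjective _ (π.subgroupMap_surjective E)).toEquiv, hE7] at h1
    have h2 : (π.subgroupMap E).ker = Z.subgroupOf E := by
      ext x
      rw [MonoidHom.mem_ker, ← Subtype.coe_inj, Subgroup.mem_subgroupOf]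
      show π (x : H) = 1 ↔ _
      rw [hπ, QuotientGroup.mk'_apply, QuotientGroup.eq_one_iff]
    rw [h2, Nat.card_congr (Subgroup.subgroupOfEquivOfLe hZEle).toEquiv, hZ2] at h1
    show Nat.card (E.map π) = 64
    omega
  have hAn : A.Normal := normal_of_type (SCA.oddCore_quotient_central hO Z hZc hZp) Tq P ⟨iso⟩ A
    fun B hB hBc hB64 => by
      haveI := hBc
      haveI := hAc
      have h := hgood.2.2 (B.subgroupOf Tq) (A.subgroupOf Tq)
        ⟨⟨fun a b => Subtype.ext (Subtype.ext (congrArg Subtype.val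
          (hBc.1.1 (⟨(a : ↥(Tq : Subgroup (H ⧸ Z))), a.2⟩ : B) ⟨(b : ↥(Tq : Subgroup (H ⧸ Z))), b.2⟩) :)) ⟩⟩
        ((Nat.card_congr (Subgroup.subgroupOfEquivOfLe hB).toEquiv).trans hB64)
        ⟨⟨fun a b => Subtype.ext (Subtype.ext (congrArg Subtype.val
          (hAc.1.1 (⟨(a : ↥(Tq : Subgroup (H ⧸ Z))), a.2⟩ : A) ⟨(b : ↥(Tq : Subgroup (H ⧸ Z))), b.2⟩) :)) ⟩⟩
        ((Nat.card_congr (Subgroup.subgroupOfEquivOfLe hAT).toEquiv).trans hA64)
      rw [Subgroup.subgroupOf_inj, inf_eq_left.2 hB, inf_eq_left.2 hAT] at h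
      exact h
  have hker : E = A.comap π := by
    rw [hA, Subgroup.comap_map_eq, hπ, QuotientGroup.ker_mk', sup_eq_left.2 hZEle]
  rw [hker]
  exact hAn.comap π

end Cfsg.Agent.Local.M24A
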