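import Cfsg.Agent.Lib.Local.M24Abelian.Code

/-!
The checker for the small subgroups of the coded group.
-/

set_option autoImplicit false
set_option maxRecDepth 100000

namespace Cfsg.Agent.Local.M24A

/-- the packed inverses -/
def ivTab : ℕ := 11728564973513598749122447625702724025698553477143788653817894738483396530243014013344411467500991339123590888587395804446423988351873853830213437000410073788814689684226628104958099895015439572687139714764054764387939574268985904641865457913096064450341087890354036946137279317610486419266497557424661014936445633249053939131935639032785330161038735642273880507576178562011392957719023731960727507464749028144526448311172835714254077554267766295811469149688158181977744503874958823465848423622990940574463996274391841584085539604767148691160644434407335483546120004208024649319913097150175772450681394864160290413873514212337756028502839025598547461757744316207324808894390430557030082879663019585871008234140793586609832830342448978224588621356443209519344742717526725026228941897794993372753995421274940153761544361071404714961867848832591396051588865038862059330714170351594073325274531275987088812751661893793916323556973069720621891094358758027967305115892921563616557808193486698483286696954080563210003369404947996114384944134127800051406157042937469598638966577295719899435302497949012429729747825912232137535645796975861354956370346800091176218972254351710026145342220733675794105978975404144868722193738274605504123939620533221787292706017217872998496612244196532964077479271752273018996348849012375450723777236639110659669499888923098765967986106660139616568432514914622898688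

/-- the inverse of a code -/
def ivm (g : ℕ) : ℕ := (ivTab >>> (9 * g)) &&& 511

theorem ivm_ok : ∀ g < 512, mm (ivm g) g = 0 ∧ ivm g < 512 := by
  have h : ((List.range 512).all fun g => mm (ivm g) g == 0 && decide (ivm g < 512)) = true := by decide +kernel
  intro g hg
  have := List.all_eq_true.1 h g (List.mem_range.2 hg)
  simpa using this

/-- conjugation -/
def cjm (h g : ℕ) : ℕ := mm (mm h g) (ivm h)

/-- `g⁻¹ (h g h⁻¹)` -/
def dl (h g : ℕ) : ℕ := mm (ivm g) (cjm h g)

/-- `x y x⁻¹ y⁻¹` -/
def cm (x y : ℕ) : ℕ := mm (cjm x y) (ivm y)

/-- commuting codes -/
def com (g h : ℕ) : Bool := mm g h == mm h g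

/-- the elements of a span -/
def spanL : List ℕ → List ℕ
  | [] => [0]
  | b :: l => spanL l ++ (spanL l).map (fun i => b ^^^ i)

/-- the elements of the span of a list without repetition -/
def spanR : List ℕ → List ℕ
  | [] => [0]
  | b :: l => let t := spanR l
    if t.contains b then t else t ++ t.map (fun i => b ^^^ i)

/-- a list as a bit mask -/
def maskOf : List ℕ → ℕ
  | [] => 0
  | a :: l => (2 ^ a) ||| maskOf l

/-- certificates -/
inductive Cert where
  | bad (a b : ℕ)
  | nc (h : ℕ)
  | oz (h : ℕ)
  | ctr (a b c : ℕ)
  | axis (a b c d : ℕ)
  | big (h : ℕ) (pairs : List (ℕ × ℕ)) (bigs : List (ℕ × ℕ)) (dc : List (ℕ × ℕ))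

/-- commutes with all -/
def cenB (gens : List ℕ) (x : ℕ) : Bool := gens.all fun g => com x g

/-- normalises the listed subgroup from outside -/
def normB (em : ℕ) (gens : List ℕ) (h : ℕ) : Bool :=
  decide (h < 512) && !em.testBit h && gens.all fun g => em.testBit (cjm h g)

/-- elementary abelian -/
def elemB (el gens : List ℕ) : Bool := el.all fun x => mm x x == 0 && cenB gens x

/-- conjugation by `h` fixes `x` or adds `c` -/
def tvB (el : List ℕ) (h c : ℕ) : Bool := el.all fun x => cjm h x == x || cjm h x == mm x c

/-- an element whose centraliser has index at most two -/
def bigB (el : List ℕ) (p : ℕ × ℕ) : Bool :=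
  el.contains p.1 && el.contains p.2 && el.all fun y => com p.1 y || com p.1 (mm y p.2)

/-- a witness against the centraliser having index at most two -/
def smallB (el : List ℕ) (pairs : List (ℕ × ℕ)) (x : ℕ) : Bool :=
  pairs.any fun p => el.contains p.1 && el.contains p.2 && !com x p.1 && !com x p.2 && !com x (mm p.1 (ivm p.2))

/-- the check of one subgroup -/
def Cert.ok (el gens : List ℕ) : Cert → Bool
  | .bad a b => el.contains a && gens.contains b && !(maskOf el).testBit (mm a b)
  | .nc h => decide (h < 512) && !(maskOf el).testBit h && cenB gens h
  | .oz h => let em := maskOf el
    normB em gens h &&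
      gens.all (fun g => let d := dl h g; em.testBit d && (mm d d == 0) && cenB gens d) &&
      el.all fun x => !(mm x x == 0) || !cenB gens x || cjm h x == x
  | .ctr a b c => let em := maskOf el
    elemB el gens && normB em gens a && normB em gens b && normB em gens (mm a b) && em.testBit c &&
      tvB el a c && tvB el b c && tvB el (mm a b) c &&
      el.all fun x => cjm a x == x || cjm b x == x || cjm (mm a b) x == x
  | .axis a b c d => let em := maskOf el
    elemB el gens && normB em gens a && normB em gens b && normB em gens (mm a b) && em.testBit c &&
      em.testBit d && tvB el a c && tvB el b d && tvB el (mm a b) (mm c d) &&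
      el.all fun x => (if cjm a x == x then cjm b x == x && cjm (mm a b) x == x
        else !(cjm b x == x) && !(cjm (mm a b) x == x) &&
          el.all fun y => cjm a y == y || cjm a (mm x y) == mm x y)
  | .big h pairs bigs dc => let em := maskOf el
    normB em gens h && bigs.all (bigB el) &&
      dc.all (fun p => (bigs.map Prod.fst).contains p.1 && el.contains p.2) &&
      (let d1 := 0 :: dc.map (fun p => cm p.1 p.2)
       el.all (fun x => smallB el pairs x ||
         (d1.contains (dl h x) && el.all fun y => cjm h (cm x y) == cm x y)) &&
       gens.all fun g => (d1 ++ bigs.map Prod.fst).contains (dl h g))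

/-- the code of a word in the lifts -/
def wordCode (lifts word : List ℕ) : ℕ := (word.map fun k => lifts.getD k 0).foldl mm 0

/-- the listed elements -/
def elOf (basis lifts : List ℕ) (words : List (ℕ × List ℕ)) : List ℕ :=
  words.flatMap fun p => let c := wordCode lifts p.2 % 64
    (spanL basis).map fun i => (i ^^^ c) + 64 * p.1

/-- all choices -/
def tuples : List ℕ → List ℕ → List (List ℕ)
  | [], _ => [[]]
  | g :: gs, reps => reps.flatMap fun x => (tuples gs reps).map fun t => (x + 64 * g) :: t

/-- plans -/
inductive Plan where
  | dismiss (a : ℕ)
  | cases (reps : List ℕ) (certs : List Cert)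

/-- data for a subgroup of the unitriangular group -/
structure WData where
  gens : List ℕ
  words : List (ℕ × List ℕ)
  subs : List (List ℕ × Plan)

/-- fixed by all generators -/
def fixB (gens : List ℕ) (x : ℕ) : Bool := gens.all fun g => act g x == x

/-- the elements of the subgroup -/
def WData.els (d : WData) : List ℕ := d.words.map Prod.fst

/-- the check of one invariant subspace -/
def planOk (d : WData) (basis : List ℕ) : Plan → Bool
  | .dismiss a => let j := spanL basis
    (d.els.all fun w => w == 0 || !(d.els.all fun v => pu w v == pu v w) || j.any fun x => !(act w x == x)) &&
      decide (a < 64) && !(maskOf j).testBit a && d.gens.all fun g => fixB d.gens (act g a ^^^ a)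
  | .cases reps certs => let jm := maskOf (spanL basis)
    (List.range 64).all (fun x => reps.any fun r => decide (r < 64) && jm.testBit (x ^^^ r)) &&
      certs.length == (tuples d.gens reps).length &&
      ((tuples d.gens reps).zip certs).all fun tc =>
        tc.2.ok (elOf basis tc.1 d.words) (basis ++ tc.1)

/-- translation of a mask -/
def growMask (els : List ℕ) (basis : List ℕ) (x : ℕ) : List ℕ := (els.map fun u => act u x) ++ basis

/-- the check of the list of invariant subspaces -/
def WData.closedB (d : WData) : Bool :=
  let masks := d.subs.map fun s => maskOf (spanL s.1)
  masks.contains (maskOf ((List.range 64).filter (fixB d.gens))) &&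
    d.subs.all fun s => s.1.all (fun b => decide (b < 64)) && (List.range 64).all fun x =>
      (maskOf (spanL s.1)).testBit x ||
        (let m := maskOf (spanR (growMask d.els s.1 x))
         let j := maskOf (spanL s.1)
         (masks.contains m || m == 2 ^ 64 - 1) && (m ||| j == m) && m.testBit x)

/-- the check of the group data -/
def WData.groupB (d : WData) : Bool :=
  d.gens.all (fun g => decide (g < 8) && d.els.contains g) &&
    d.words.all fun p => decide (p.1 < 8) && p.2.all (fun k => decide (k < d.gens.length)) &&
      ((p.2.map fun k => d.gens.getD k 0).foldl pu 0 == p.1)

end Cfsg.Agent.Local.M24A
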