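import Cfsg.Agent.Lib.Local.M24Abelian.CoordsData
import Cfsg.Agent.Lib.Fusion.Cores
import Mathlib

/-!
The coordinate isomorphism for the central quotient of a Sylow two-subgroup of `M24`.
-/

set_option autoImplicit false
set_option maxRecDepth 100000
set_option linter.style.haveILetI false

namespace Cfsg.Agent.Local.M24A

open Cfsg Cfsg.Agent.Local.FS.Mathieu Cfsg.Agent.Lie.M24Sylow

/-- everything is reached from the four generators -/
theorem reach {K : ℕ → Prop} (h0 : K 0) (hstep : ∀ g < 512, K g → ∀ k ∈ [4, 8, 256, 128], K (mm g k)) :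
    ∀ g < 512, K g := by
  have hw : ∀ ws : List ℕ, (∀ k ∈ ws, k ∈ [4, 8, 256, 128]) → K (ws.foldl mm 0) ∧ ws.foldl mm 0 < 512 := by
    intro ws
    induction ws using List.reverseRecOn with
    | nil => intro _; exact ⟨h0, by norm_num⟩
    | append_singleton ws k ih =>
      intro hk
      obtain ⟨h1, h2⟩ := ih fun x hx => hk x (List.mem_append_left _ hx)
      rw [List.foldl_append, List.foldl_cons, List.foldl_nil]
      exact ⟨hstep _ h2 h1 k (hk k (by simp)), (mm_div _ _).2.2⟩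
  intro g hg
  obtain ⟨ws, hws, rfl⟩ : ∃ ws : List ℕ, (∀ k ∈ ws, k ∈ [4, 8, 256, 128]) ∧ ws.foldl mm 0 = g := words g hg
  exact (hw ws hws).1

theorem coord_of_model {P : Type*} [Group P] [Finite P] {C : P → ℕ} (hM : Model P C) (h1024 : Nat.card P = 1024) :
    Nonempty (Coord (P ⧸ Subgroup.center P)) := by
  classical
  obtain ⟨z, hz, hz1, hcen⟩ := hM.center
  set Z := Subgroup.center P with hZdef
  have hzZ : z ∈ Z := (hcen z).2 (Or.inr rfl)
  have hZc : Nat.card ↥Z = 2 := by
    have h : (Z : Set P) = {1, z} := by ext x; exact hcen x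
    rw [show Nat.card ↥Z = (Z : Set P).ncard from Nat.card_coe_set_eq _, h, Set.ncard_pair (Ne.symm hz1)]
  have hzmk : (z : P ⧸ Z) = 1 := (QuotientGroup.eq_one_iff z).2 hzZ
  have hQ : Nat.card (P ⧸ Z) = 512 := by
    have := Subgroup.card_eq_card_quotient_mul_card_subgroup Z
    rw [h1024, hZc] at this
    omega
  have hlift : ∀ g : Fin 512, ∃ x : P, C x = liftList.getD g.val 0 := fun g => by
    refine hM.surj _ (contains_mem (List.all_eq_true.1 lift_mem _ ?_))
    rw [List.getD_eq_getElem _ _ (by rw [lift_len]; exact g.isLt)]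
    exact List.getElem_mem _
  choose L hL using hlift
  let φ : Fin 512 → P ⧸ Z := fun g => (L g : P ⧸ Z)
  have hsurj : Function.Surjective φ := by
    intro q
    obtain ⟨x, rfl⟩ := QuotientGroup.mk_surjective q
    have h1 : ∀ v, liftTree.mem v = true → ∀ y, C y = v → ∃ g, φ g = (y : P ⧸ Z) := by
      intro v hv y hy
      obtain ⟨i, hi, he⟩ := List.getElem_of_mem (contains_mem (List.all_eq_true.1 tree_sub _ (Tr.mem_flat hv)))
      refine ⟨⟨i, lift_len ▸ hi⟩, congrArg _ (hM.inj ?_)⟩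
      rw [hL, hy, List.getD_eq_getElem _ _ hi, he]
    have := List.all_eq_true.1 lift_cover _ (hM.mem x)
    rw [Bool.or_eq_true] at this
    rcases this with h | h
    · exact h1 _ h x rfl
    · obtain ⟨g, hg⟩ := h1 _ h (z * x) (by rw [hM.mul, hz])
      exact ⟨g, by rw [hg, QuotientGroup.mk_mul, hzmk, one_mul]⟩
  have hbij : Function.Bijective φ := by
    haveI : Fintype (P ⧸ Z) := Fintype.ofFinite _
    exact (Fintype.bijective_iff_surjective_and_card φ).2 ⟨hsurj, by rw [← Nat.card_eq_fintype_card (α := P ⧸ Z), hQ, Fintype.card_fin]⟩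
  let e := (Equiv.ofBijective φ hbij).symm
  let c : P ⧸ Z → ℕ := fun s => (e s).val
  have hφ : ∀ g : Fin 512, c (φ g) = g.val := fun g => congrArg Fin.val ((Equiv.ofBijective φ hbij).symm_apply_apply g)
  have hgen : ∀ k ∈ [4, 8, 256, 128], k < 512 := by decide
  have hmulgen : ∀ g : Fin 512, ∀ k (hk : k ∈ [4, 8, 256, 128]), φ g * φ ⟨k, hgen k hk⟩ = φ ⟨mm g.val k, (mm_div _ _).2.2⟩ := by
    intro g k hk
    have h2 := List.all_eq_true.1 (List.all_eq_true.1 lift_mul g.val (List.mem_range.2 g.isLt)) k hk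
    rw [Bool.or_eq_true, beq_iff_eq, beq_iff_eq] at h2
    show (L g : P ⧸ Z) * (L _ : P ⧸ Z) = (L _ : P ⧸ Z)
    rw [← QuotientGroup.mk_mul]
    rcases h2 with h2 | h2
    · exact congrArg _ (hM.inj (by rw [hM.mul, hL, hL, hL]; exact h2))
    · have : L g * L ⟨k, hgen k hk⟩ = z * L ⟨mm g.val k, (mm_div _ _).2.2⟩ :=
        hM.inj (by rw [hM.mul, hM.mul, hL, hL, hL, hz]; exact h2)
      rw [this, QuotientGroup.mk_mul, hzmk, one_mul]
  have h0 : φ ⟨0, by norm_num⟩ = 1 := by
    show (L _ : P ⧸ Z) = 1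
    rw [QuotientGroup.eq_one_iff, hcen]
    rcases lift_zero with h | h
    · exact Or.inl (hM.inj (by rw [hL, hM.one]; exact h))
    · exact Or.inr (hM.inj (by rw [hL, hz]; exact h))
  have hall : ∀ h (hh : h < 512), ∀ g : Fin 512, φ g * φ ⟨h, hh⟩ = φ ⟨mm g.val h, (mm_div _ _).2.2⟩ := by
    intro h
    refine fun hh => reach (K := fun h => ∀ (hh : h < 512) (g : Fin 512), φ g * φ ⟨h, hh⟩ = φ ⟨mm g.val h, (mm_div _ _).2.2⟩)
      ?_ ?_ h hh hh
    · intro hh g
      rw [show (⟨0, hh⟩ : Fin 512) = ⟨0, by norm_num⟩ from rfl, h0, mul_one]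
      exact congrArg φ (Fin.ext (mm_zero g.val g.isLt).symm)
    · intro h hlt ih k hk hh g
      rw [show (⟨mm h k, hh⟩ : Fin 512) = ⟨mm h k, (mm_div _ _).2.2⟩ from rfl, ← hmulgen ⟨h, hlt⟩ k hk, ← mul_assoc,
        ih hlt g, hmulgen _ k hk]
      exact congrArg φ (Fin.ext (mm_assoc g.isLt hlt (hgen k hk)))
  refine ⟨⟨c, fun s => (e s).isLt, fun s t h => e.injective (Fin.ext h), fun g hg => ⟨φ ⟨g, hg⟩, hφ _⟩, fun s t => ?_⟩⟩
  obtain ⟨g, rfl⟩ := hsurj s
  obtain ⟨h, rfl⟩ := hsurj t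
  rw [hall h.val h.isLt g, hφ, hφ, hφ]

theorem exists_coord (P : Sylow 2 M24) :
    Nonempty (Coord (↥(P : Subgroup M24) ⧸ Subgroup.center ↥(P : Subgroup M24))) := by
  haveI : Fact (Nat.Prime 2) := ⟨Nat.prime_two⟩
  obtain ⟨P0, hP0⟩ := exists_facts m24Cert (fun x : M24 => code (x : Equiv.Perm GolayPt))
    (fun x y => (congrArg code (Subgroup.coe_mul M24 x y)).trans (code_mul _ _)) code_one
    (fun x y e => Subtype.ext (code_injective e)) (fun i => m24Gens.getD i 1) gens_get card_m24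
    m24_checkS m24_checkCenter m24_checkSize
  have hgm : ∀ j : ℕ, j < 4 → (m24Gens.getD (2 + j) 1 : M24) ∈ (P0 : Subgroup M24) := fun j hj => by
    refine hP0.gen_mem _ ?_
    rw [sgen_eq.1]
    interval_cases j <;> decide
  let C : ↥(P0 : Subgroup M24) → ℕ := fun x => code ((x : M24) : Equiv.Perm GolayPt)
  have hM : Model ↥(P0 : Subgroup M24) C := by
    refine ⟨fun x y => (congrArg code (Subgroup.coe_mul M24 _ _)).trans (code_mul _ _), code_one,
      fun x y e => Subtype.ext (Subtype.ext (code_injective e)), fun x => hP0.mem_list x x.2,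
      fun v hv => ?_, fun H hH => ?_, fun j hj => ⟨⟨_, hgm j hj⟩, gens_get _⟩, ?_⟩
    · obtain ⟨σ, hσ, e⟩ := hP0.of_list v hv
      exact ⟨⟨σ, hσ⟩, e⟩
    · have h : (P0 : Subgroup M24) ≤ H.map (P0 : Subgroup M24).subtype := by
        refine (le_of_eq hP0.gen_top).trans ((Subgroup.closure_le _).2 ?_)
        rintro _ ⟨s, hs, rfl⟩
        rw [sgen_eq.1] at hs
        obtain ⟨j, hj, rfl⟩ : ∃ j, j < 4 ∧ s = 2 + j := by
          simp only [List.mem_cons, List.not_mem_nil, or_false] at hs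
          exact ⟨s - 2, by omega, by omega⟩
        exact ⟨⟨_, hgm j hj⟩, hH _ ⟨j, hj, gens_get _⟩, rfl⟩
      refine (Subgroup.eq_top_iff' _).2 fun x => ?_
      obtain ⟨y, hy, e⟩ := h x.2
      rwa [← Subtype.ext e]
    · refine ⟨⟨_, hP0.z_mem⟩, (gens_get _).trans (by rw [zc, sgen_eq.2]), fun e => hP0.z_ne (congrArg Subtype.val e),
        fun x => ⟨fun h => ?_, ?_⟩⟩
      · rcases hP0.center x x.2 (fun s hs => congrArg Subtype.val (Subgroup.mem_center_iff.1 h ⟨s, hs⟩)) with e | e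
        · exact Or.inl (Subtype.ext e)
        · exact Or.inr (Subtype.ext e)
      · rintro (rfl | rfl)
        · exact one_mem _
        · exact Subgroup.mem_center_iff.2 fun s => Subtype.ext (hP0.z_comm s s.2)
  have hcard : Nat.card ↥(P0 : Subgroup M24) = 1024 := by
    rw [Sylow.card_eq_multiplicity, card_m24, show (244823040 : ℕ) = 2 ^ 10 * 239085 by norm_num,
      Nat.factorization_mul (by norm_num) (by norm_num), Finsupp.coe_add, Pi.add_apply, Nat.Prime.factorization_pow Nat.prime_two,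
      Finsupp.single_eq_same, Nat.factorization_eq_zero_of_not_dvd (by norm_num)]
    norm_num
  obtain ⟨Q⟩ := coord_of_model hM hcard
  refine ⟨Q.ofEquiv (QuotientGroup.congr _ _ (Sylow.equiv P P0) ?_)⟩
  ext y
  constructor
  · rintro ⟨x, hx, rfl⟩
    exact Subgroup.mem_center_iff.2 fun g => by
      obtain ⟨g', rfl⟩ := (Sylow.equiv P P0).surjective g
      exact ((map_mul _ g' x).symm.trans (congrArg _ (Subgroup.mem_center_iff.1 hx g'))).trans (map_mul _ x g')
  · intro hy
    obtain ⟨x, rfl⟩ := (Sylow.equiv P P0).surjective y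
    exact ⟨x, Subgroup.mem_center_iff.2 fun g => (Sylow.equiv P P0).injective (by
      rw [map_mul, map_mul]; exact Subgroup.mem_center_iff.1 hy _), rfl⟩

end Cfsg.Agent.Local.M24A
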