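import Cfsg.Agent.Lib.Local.FS.WeakSeries
import Cfsg.Agent.Lib.Local.StrongEmb
import Mathlib

/-!
Two criteria against essential subgroups: stabilised characteristic series, and transvections with pairwise commuting
conjugates.
-/

set_option autoImplicit false
set_option linter.style.haveILetI false

namespace Cfsg.Agent.Local.M24A

open Cfsg Cfsg.FusionSystem Cfsg.Agent.Fusion Cfsg.Agent.Local.FS

/-- A strongly embedded subgroup excludes a two-subgroup meeting every conjugate of itself in a commuting pair. -/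
theorem false_of_commuting {X : Type*} [Group X] [Finite X] {p : ℕ} [Fact p.Prime] {E : Subgroup X}
    (hE : Cfsg.IsStronglyPEmbedded p E) {Q : Subgroup X} (hQ : IsPGroup p Q)
    (h : ∀ g : X, ∃ q ∈ Q, ∃ r ∈ Q, q ≠ 1 ∧ r ≠ 1 ∧ q * (g * r * g⁻¹) = g * r * g⁻¹ * q) : False := by
  obtain ⟨-, htop, T, hT, hΓ⟩ := Cfsg.Agent.Local.isStronglyPEmbedded_iff.1 hE
  obtain ⟨x, -, hx⟩ := hT.conj_le hQ le_top
  refine htop (top_le_iff.1 fun g _ => ?_)
  obtain ⟨q, hq, r, hr, hq1, hr1, hc⟩ := h (x⁻¹ * g * x)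
  set q' := x * q * x⁻¹
  set r' := x * r * x⁻¹
  have hq' : q' ∈ T := hx (conj_mem_cj hq)
  have hr' : r' ∈ T := hx (conj_mem_cj hr)
  have hq'1 : q' ≠ 1 := fun e => hq1 (conj_eq_one_iff.1 e)
  have hr'1 : r' ≠ 1 := fun e => hr1 (conj_eq_one_iff.1 e)
  set s := g * r' * g⁻¹
  have hs : Commute q' s := by
    show q' * s = s * q'
    calc q' * s = x * (q * (x⁻¹ * g * x * r * (x⁻¹ * g * x)⁻¹)) * x⁻¹ := by simp only [q', r', s]; group
      _ = x * (x⁻¹ * g * x * r * (x⁻¹ * g * x)⁻¹ * q) * x⁻¹ := by rw [hc]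
      _ = s * q' := by simp only [q', r', s]; group
  have hTE : T ≤ E := Subgroup.le_normalizer.trans (hΓ T le_rfl fun e => hq'1 (Subgroup.mem_bot.1 (e ▸ hq')))
  have hsE : s ∈ E := by
    refine hΓ (Subgroup.zpowers q') (Subgroup.zpowers_le.2 hq') (by rw [Subgroup.zpowers_ne_bot]; exact hq'1) ?_
    refine Subgroup.centralizer_le_normalizer _ (Subgroup.mem_centralizer_iff.2 fun y hy => ?_)
    obtain ⟨j, rfl⟩ := hy
    exact (hs.zpow_left j).eq
  have hTsyl : SylIn p T E := hT.mono hTE le_top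
  have hsp : IsPGroup p (Subgroup.zpowers s) := ((hT.isPGroup.to_le (Subgroup.zpowers_le.2 hr')).map
    (MulAut.conj g).toMonoidHom).to_le (Subgroup.zpowers_le.2 ⟨r', Subgroup.mem_zpowers _, rfl⟩)
  obtain ⟨e, he, hes⟩ := hTsyl.conj_le hsp (Subgroup.zpowers_le.2 hsE)
  have hmem : e * g ∈ E := by
    refine Cfsg.Agent.Local.mem_of_conj_le hT hΓ (A := Subgroup.zpowers r') (Subgroup.zpowers_le.2 hr')
      (by rw [Subgroup.zpowers_ne_bot]; exact hr'1) ?_
    rw [← cj_cj]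
    refine le_trans (cj_mono ?_ e) hes
    refine le_of_eq ?_
    exact MonoidHom.map_zpowers (MulAut.conj g).toMonoidHom r'
  have := E.mul_mem (E.inv_mem he) hmem
  rwa [inv_mul_cancel_left] at this

universe u

variable {G : Type u} [Group G] {S R : Subgroup G} [Finite S] {F : FusionSystem S} {p : ℕ} [Fact p.Prime]

/-- Closure of an invariant set is invariant. -/
theorem closure_invariant {s : Set G} (hs : s ⊆ R)
    (hinv : ∀ α : MulAut R, ∀ x ∈ s, av α x ∈ s) (α : MulAut R) :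
    ∀ x ∈ R, x ∈ Subgroup.closure s → av α x ∈ Subgroup.closure s := by
  intro x _ hx
  have key : ∀ x ∈ Subgroup.closure s, ∃ hx : x ∈ R, ((α ⟨x, hx⟩ : R) : G) ∈ Subgroup.closure s := by
    intro x hx
    induction hx using Subgroup.closure_induction with
    | mem y hy =>
      refine ⟨hs hy, ?_⟩
      rw [← av_apply α (hs hy)]
      exact Subgroup.subset_closure (hinv α y hy)
    | one =>
      refine ⟨R.one_mem, ?_⟩
      rw [show (⟨1, R.one_mem⟩ : R) = 1 from rfl, map_one]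
      exact one_mem _
    | mul y z _ _ ihy ihz =>
      obtain ⟨hy, hy'⟩ := ihy
      obtain ⟨hz, hz'⟩ := ihz
      refine ⟨R.mul_mem hy hz, ?_⟩
      rw [show (⟨y * z, R.mul_mem hy hz⟩ : R) = ⟨y, hy⟩ * ⟨z, hz⟩ from rfl, map_mul]
      exact mul_mem hy' hz'
    | inv y _ ih =>
      obtain ⟨hy, hy'⟩ := ih
      refine ⟨R.inv_mem hy, ?_⟩
      rw [show (⟨y⁻¹, R.inv_mem hy⟩ : R) = ⟨y, hy⟩⁻¹ from rfl, map_inv]
      exact inv_mem hy'
  obtain ⟨hx', h⟩ := key x hx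
  rwa [av_apply α hx']

/-- An element stabilising two invariant layers lies in a centric radical subgroup. -/
theorem mem_of_layers (hS : IsPGroup p S) (hC : F.IsCentric R) (hR : F.IsRadical p R)
    (D₁ D₂ : Subgroup G) (h12 : D₁ ≤ D₂) (h2R : D₂ ≤ R)
    (hi1 : ∀ α : MulAut R, ∀ x ∈ R, x ∈ D₁ → av α x ∈ D₁)
    (hi2 : ∀ α : MulAut R, ∀ x ∈ R, x ∈ D₂ → av α x ∈ D₂)
    {a : G} (ha : a ∈ S) (han : a ∈ Subgroup.normalizer (R : Set G))
    (h1 : ∀ x ∈ D₁, a * x * a⁻¹ = x) (h2 : ∀ x ∈ D₂, x⁻¹ * (a * x * a⁻¹) ∈ D₁)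
    (h3 : ∀ x ∈ R, x⁻¹ * (a * x * a⁻¹) ∈ D₂) : a ∈ R := by
  let D : ℕ → Subgroup G := fun i => if i = 0 then ⊥ else if i = 1 then D₁ else if i = 2 then D₂ else R
  refine mem_of_stabilizes_weakSeries hS hC hR D 3 rfl (le_of_eq rfl) (monotone_nat_of_le_succ fun i => ?_)
    (fun i α _ x hx hxD => ?_) ha han fun i hi x hx hxD => ?_
  · rcases i with _ | _ | _ | i
    · exact bot_le
    · exact h12
    · exact h2R
    · exact le_rfl
  · rcases i with _ | _ | _ | i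
    · have : x = 1 := Subgroup.mem_bot.1 hxD
      subst this
      exact Subgroup.mem_bot.2 (by rw [av_apply α hx, show (⟨1, hx⟩ : R) = 1 from rfl, map_one]; rfl)
    · exact hi1 α x hx hxD
    · exact hi2 α x hx hxD
    · exact av_mem α hx
  · rcases i with _ | _ | _ | i
    · exact Subgroup.mem_bot.2 (by rw [h1 x hxD, inv_mul_cancel])
    · exact h2 x hxD
    · exact h3 x hx
    · omega

/-- The layer condition spreads from generators. -/
theorem layer_of_generators {D : Subgroup G} {gs : Set G} (hgs : R = Subgroup.closure gs)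
    (hDn : ∀ y ∈ R, ∀ d ∈ D, y⁻¹ * d * y ∈ D) {a : G} (han : a ∈ Subgroup.normalizer (R : Set G))
    (h : ∀ x ∈ gs, x⁻¹ * (a * x * a⁻¹) ∈ D) : ∀ x ∈ R, x⁻¹ * (a * x * a⁻¹) ∈ D := by
  intro x hx
  rw [hgs] at hx
  induction hx using Subgroup.closure_induction with
  | mem y hy => exact h y hy
  | one => simp
  | mul y z hy hz ihy ihz =>
    rw [← hgs] at hy hz
    have := D.mul_mem (hDn z hz _ ihy) ihz
    rwa [show z⁻¹ * (y⁻¹ * (a * y * a⁻¹)) * z * (z⁻¹ * (a * z * a⁻¹)) = (y * z)⁻¹ * (a * (y * z) * a⁻¹) by group]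
      at this
  | inv y hy ihy =>
    rw [← hgs] at hy
    have := hDn y⁻¹ (R.inv_mem hy) _ (D.inv_mem ihy)
    rwa [show y⁻¹⁻¹ * (y⁻¹ * (a * y * a⁻¹))⁻¹ * y⁻¹ = y⁻¹⁻¹ * (a * y⁻¹ * a⁻¹) by group] at this

/-- An invariant subgroup is normal in `R`. -/
theorem conj_mem_of_invariant {D : Subgroup G} (hDR : D ≤ R) (hi : ∀ α : MulAut R, ∀ x ∈ R, x ∈ D → av α x ∈ D) :
    ∀ y ∈ R, ∀ d ∈ D, y⁻¹ * d * y ∈ D := by
  intro y hy d hd
  have := hi (MulAut.conj (⟨y, hy⟩⁻¹ : R)) d (hDR hd) hd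
  rw [av_apply _ (hDR hd)] at this
  simpa using this

/-- An element whose transvection centres fit with every conjugate rules out an essential subgroup. -/
theorem not_essential_of_transvections (hS : IsPGroup p S) (hF : F.IsSaturated p) (hR : F.IsEssential p R)
    (hab : ∀ x ∈ R, ∀ y ∈ R, x * y = y * x) {ι : Type*} (q c : ι → G) (hq : ∀ i, q i ∈ S)
    (hqn : ∀ i, q i ∈ Subgroup.normalizer (R : Set G)) (hqR : ∀ i, q i ∉ R) (hc : ∀ i, c i ∈ R)
    (htv : ∀ i, ∀ x ∈ R, q i * x * (q i)⁻¹ = x ∨ q i * x * (q i)⁻¹ = x * c i)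
    (hfit : ∀ α : MulAut R, ∃ i j, q i * av α (c j) * (q i)⁻¹ = av α (c j) ∧
      q j * av α⁻¹ (c i) * (q j)⁻¹ = av α⁻¹ (c i)) : False := by
  obtain ⟨hn, hst⟩ := essential_data hS hF hR
  have hRS : R ≤ S := hR.1.1
  haveI := mulAut_finite_of_le hRS
  haveI := hn
  set π := QuotientGroup.mk' ((Inn R).subgroupOf (F.autGroup R))
  choose β hβ hβS using fun i => exists_aut_conj (hqn i)
  have hβA : ∀ i, β i ∈ F.autGroup R := fun i => autInducedBy_le_autGroup hRS (hβS i S (hq i))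
  have hne : ∀ i, π ⟨β i, hβA i⟩ ≠ 1 := by
    intro i e
    obtain ⟨y, hy, hyi⟩ := mem_Inn.1 (Subgroup.mem_subgroupOf.1 ((QuotientGroup.eq_one_iff _).1 e))
    refine hqR i (hR.1.2 R (isConj_refl hRS) (mem_centralizerIn.2 ⟨hq i, fun x hx => ?_⟩))
    have h1 : q i * x * (q i)⁻¹ = x := by
      rw [← hβ i x hx]
      show av (β i) x = x
      rw [hyi x hx, hab y hy x hx, mul_inv_cancel_right]
    exact (mul_inv_eq_iff_eq_mul.1 h1).symm
  refine false_of_commuting hst (Q := ((autInducedBy S R).subgroupOf (F.autGroup R)).map π)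
    (((isPGroup_autS hS).comap_subtype).map π) fun g => ?_
  obtain ⟨γ, rfl⟩ := QuotientGroup.mk'_surjective _ g
  obtain ⟨i, j, hij, hji⟩ := hfit (γ : MulAut R)
  refine ⟨π ⟨β i, hβA i⟩, ⟨_, hβS i S (hq i), rfl⟩, π ⟨β j, hβA j⟩, ⟨_, hβS j S (hq j), rfl⟩, hne i, hne j, ?_⟩
  rw [← map_inv, ← map_mul, ← map_mul, ← map_mul, ← map_mul]
  refine congrArg π (Subtype.ext (aut_ext fun x hx => ?_))
  simp only [Subgroup.coe_mul, Subgroup.coe_inv]
  set α := (γ : MulAut R)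
  have hmul : ∀ (δ : MulAut R) {u v : G}, u ∈ R → v ∈ R → av δ (u * v) = av δ u * av δ v := by
    intro δ u v hu hv
    rw [av_apply δ hu, av_apply δ hv, av_apply δ (R.mul_mem hu hv),
      show (⟨u * v, R.mul_mem hu hv⟩ : R) = ⟨u, hu⟩ * ⟨v, hv⟩ from rfl, map_mul]
    rfl
  have hB : ∀ y ∈ R, av (α * β j * α⁻¹) y = y ∨ av (α * β j * α⁻¹) y = y * av α (c j) := by
    intro y hy
    rw [av_mul _ _ hy, av_mul _ _ (av_mem _ hy), hβ j _ (av_mem _ hy)]
    rcases htv j _ (av_mem α⁻¹ hy) with e | e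
    · left; rw [e, av_av_inv α hy]
    · right; rw [e, hmul α (av_mem _ hy) (hc j), av_av_inv α hy]
  have hBc : av (α * β j * α⁻¹) (c i) = c i := by
    rw [av_mul _ _ (hc i), av_mul _ _ (av_mem _ (hc i)), hβ j _ (av_mem _ (hc i)), hji, av_av_inv α (hc i)]
  have hA : ∀ y ∈ R, av (β i) y = y ∨ av (β i) y = y * c i := fun y hy => by
    rw [hβ i y hy]; exact htv i y hy
  have hAc : av (β i) (av α (c j)) = av α (c j) := by rw [hβ i _ (av_mem _ (hc j))]; exact hij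
  rw [av_mul (β i) (α * β j * α⁻¹) hx, av_mul (α * β j * α⁻¹) (β i) hx]
  have hcj : av α (c j) ∈ R := av_mem _ (hc j)
  rcases hB x hx with eB | eB <;> rcases hA x hx with eA | eA
  · rw [eB, eA, eB]
  · rw [eB, eA, hmul _ hx (hc i), eB, hBc]
  · rw [eB, hmul _ hx hcj, eA, hAc, eB]
  · rw [eB, hmul _ hx hcj, eA, hAc, hmul _ hx (hc i), eB, hBc, mul_assoc, mul_assoc, hab _ (hc i) _ hcj]

end Cfsg.Agent.Local.M24A
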