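import Cfsg.Agent.Lib.Local.M24Abelian.Check

/-!
The certificates for the small subgroups of the coded group.
-/

set_option autoImplicit false
set_option maxRecDepth 100000

namespace Cfsg.Agent.Local.M24A

/-- certificates -/
def wdata0 : WData where
  gens := [1]
  words := [(0, []), (1, [0])]
  subs := [
    ([1, 2, 16, 32], .cases [0, 4, 8, 12]
      [.axis 4 8 1 32,
        .oz 4,
        .oz 4,
        .oz 4]),
    ([1, 2, 4, 16, 32], .dismiss 8),
    ([1, 2, 8, 16, 32], .dismiss 4),
    ([1, 2, 12, 16, 32], .dismiss 4)]

/-- certificates -/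
def wdata1 : WData where
  gens := [2]
  words := [(0, []), (2, [0])]
  subs := [
    ([1, 2, 8, 32], .cases [0, 4, 16, 20]
      [.axis 4 16 2 32,
        .oz 4,
        .oz 4,
        .oz 4]),
    ([1, 2, 4, 8, 32], .dismiss 16),
    ([1, 2, 8, 16, 32], .dismiss 4),
    ([1, 2, 8, 20, 32], .dismiss 4)]

/-- certificates -/
def wdata2 : WData where
  gens := [3]
  words := [(0, []), (3, [0])]
  subs := [
    ([1, 2, 24, 32], .cases [0, 4, 8, 12]
      [.axis 4 8 3 32,
        .oz 4,
        .oz 4,
        .oz 4]),
    ([1, 2, 4, 24, 32], .dismiss 8),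
    ([1, 2, 8, 16, 32], .dismiss 4),
    ([1, 2, 12, 20, 32], .dismiss 4)]

/-- certificates -/
def wdata3 : WData where
  gens := [4]
  words := [(0, []), (4, [0])]
  subs := [
    ([1, 4, 16, 32], .cases [0, 2, 8, 10]
      [.axis 2 8 1 16,
        .oz 2,
        .oz 2,
        .oz 2]),
    ([1, 2, 4, 16, 32], .dismiss 8),
    ([1, 4, 8, 16, 32], .dismiss 2),
    ([1, 4, 10, 16, 32], .dismiss 2)]

/-- certificates -/
def wdata4 : WData where
  gens := [5]
  words := [(0, []), (5, [0])]
  subs := [
    ([1, 6, 16, 32], .cases [0, 2, 8, 10]
      [.axis 2 8 1 48,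
        .oz 2,
        .oz 2,
        .oz 2]),
    ([1, 2, 4, 16, 32], .dismiss 8),
    ([1, 6, 8, 16, 32], .dismiss 2),
    ([1, 6, 10, 16, 32], .dismiss 2)]

/-- certificates -/
def wdata5 : WData where
  gens := [1, 2]
  words := [(0, []), (1, [0]), (2, [1]), (3, [0, 1])]
  subs := [
    ([1, 2, 32], .cases [0, 4, 8, 12, 16, 20, 24, 28]
      [.ctr 8 16 32,
        .oz 4,
        .nc 80,
        .oz 4,
        .oz 16,
        .oz 4,
        .nc 80,
        .oz 4,
        .oz 4,
        .oz 4,
        .oz 4,
        .oz 4,
        .oz 4,
        .oz 4,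
        .oz 4,
        .oz 4,
        .oz 8,
        .oz 4,
        .nc 88,
        .oz 4,
        .oz 24,
        .oz 4,
        .nc 88,
        .oz 4,
        .oz 4,
        .oz 4,
        .oz 4,
        .oz 4,
        .oz 4,
        .oz 4,
        .oz 4,
        .oz 4,
        .nc 64,
        .oz 4,
        .ctr 8 16 32,
        .oz 4,
        .nc 64,
        .oz 4,
        .oz 16,
        .oz 4,
        .oz 4,
        .oz 4,
        .oz 4,
        .oz 4,
        .oz 4,
        .oz 4,
        .oz 4,
        .oz 4,
        .nc 72,
        .oz 4,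
        .oz 8,
        .oz 4,
        .nc 72,
        .oz 4,
        .oz 24,
        .oz 4,
        .oz 4,
        .oz 4,
        .oz 4,
        .oz 4,
        .oz 4,
        .oz 4,
        .oz 4,
        .oz 4]),
    ([1, 2, 4, 32], .dismiss 8),
    ([1, 2, 8, 32], .cases [0, 4, 16, 20]
      [.big 16 [] [(8, 64)] [(8, 64)],
        .oz 4,
        .oz 4,
        .oz 4,
        .oz 4,
        .oz 4,
        .oz 4,
        .oz 4,
        .big 16 [] [(8, 80)] [(8, 80)],
        .oz 4,
        .oz 4,
        .oz 4,
        .oz 4,
        .oz 4,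
        .oz 4,
        .oz 4]),
    ([1, 2, 12, 32], .dismiss 4),
    ([1, 2, 16, 32], .cases [0, 4, 8, 12]
      [.big 8 [] [(16, 128)] [(16, 128)],
        .oz 4,
        .big 8 [] [(16, 136)] [(16, 136)],
        .oz 4,
        .oz 4,
        .oz 4,
        .oz 4,
        .oz 4,
        .oz 4,
        .oz 4,
        .oz 4,
        .oz 4,
        .oz 4,
        .oz 4,
        .oz 4,
        .oz 4]),
    ([1, 2, 20, 32], .dismiss 4),
    ([1, 2, 24, 32], .cases [0, 4, 8, 12]
      [.big 8 [] [(24, 64)] [(24, 64)],
        .oz 4,
        .oz 4,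
        .oz 4,
        .oz 4,
        .oz 4,
        .oz 4,
        .oz 4,
        .oz 4,
        .oz 4,
        .big 8 [] [(24, 72)] [(24, 72)],
        .oz 4,
        .oz 4,
        .oz 4,
        .oz 4,
        .oz 4]),
    ([1, 2, 28, 32], .dismiss 4),
    ([1, 2, 4, 8, 32], .dismiss 16),
    ([1, 2, 4, 16, 32], .dismiss 8),
    ([1, 2, 4, 24, 32], .dismiss 8),
    ([1, 2, 8, 16, 32], .dismiss 4),
    ([1, 2, 8, 20, 32], .dismiss 4),
    ([1, 2, 12, 16, 32], .dismiss 4),
    ([1, 2, 12, 20, 32], .dismiss 4)]

/-- certificates -/
def wdata6 : WData where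
  gens := [1, 4]
  words := [(0, []), (1, [0]), (4, [1]), (5, [0, 1])]
  subs := [
    ([1, 16, 32], .cases [0, 2, 4, 6, 8, 10, 12, 14]
      [.ctr 2 4 1,
        .oz 2,
        .nc 66,
        .nc 66,
        .oz 2,
        .oz 2,
        .oz 2,
        .oz 2,
        .nc 64,
        .nc 64,
        .ctr 2 4 1,
        .oz 2,
        .oz 2,
        .oz 2,
        .oz 2,
        .oz 2,
        .oz 4,
        .oz 6,
        .nc 70,
        .nc 70,
        .oz 2,
        .oz 2,
        .oz 2,
        .oz 2,
        .nc 68,
        .nc 68,
        .oz 4,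
        .oz 6,
        .oz 2,
        .oz 2,
        .oz 2,
        .oz 2,
        .oz 2,
        .oz 2,
        .oz 2,
        .oz 2,
        .oz 2,
        .oz 2,
        .oz 2,
        .oz 2,
        .oz 2,
        .oz 2,
        .oz 2,
        .oz 2,
        .oz 2,
        .oz 2,
        .oz 2,
        .oz 2,
        .oz 2,
        .oz 2,
        .oz 2,
        .oz 2,
        .oz 2,
        .oz 2,
        .oz 2,
        .oz 2,
        .oz 2,
        .oz 2,
        .oz 2,
        .oz 2,
        .oz 2,
        .oz 2,
        .oz 2,
        .oz 2]),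
    ([1, 2, 16, 32], .cases [0, 4, 8, 12]
      [.big 4 [] [(2, 256)] [(2, 256)],
        .big 4 [] [(2, 260)] [(2, 260)],
        .oz 4,
        .oz 4,
        .oz 4,
        .oz 4,
        .oz 4,
        .oz 4,
        .oz 4,
        .oz 4,
        .oz 4,
        .oz 4,
        .oz 4,
        .oz 4,
        .oz 4,
        .oz 4]),
    ([1, 4, 16, 32], .cases [0, 2, 8, 10]
      [.big 2 [] [(4, 64)] [(4, 64)],
        .oz 2,
        .oz 2,
        .oz 2,
        .big 2 [] [(4, 66)] [(4, 66)],
        .oz 2,
        .oz 2,
        .oz 2,
        .oz 2,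
        .oz 2,
        .oz 2,
        .oz 2,
        .oz 2,
        .oz 2,
        .oz 2,
        .oz 2]),
    ([1, 6, 16, 32], .cases [0, 2, 8, 10]
      [.big 2 [] [(6, 64)] [(6, 64)],
        .oz 2,
        .oz 2,
        .oz 2,
        .oz 2,
        .big 2 [] [(6, 66)] [(6, 66)],
        .oz 2,
        .oz 2,
        .oz 2,
        .oz 2,
        .oz 2,
        .oz 2,
        .oz 2,
        .oz 2,
        .oz 2,
        .oz 2]),
    ([1, 8, 16, 32], .dismiss 2),
    ([1, 10, 16, 32], .dismiss 2),
    ([1, 12, 16, 32], .dismiss 2),
    ([1, 14, 16, 32], .dismiss 2),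
    ([1, 2, 4, 16, 32], .dismiss 8),
    ([1, 2, 8, 16, 32], .dismiss 4),
    ([1, 2, 12, 16, 32], .dismiss 4),
    ([1, 4, 8, 16, 32], .dismiss 2),
    ([1, 4, 10, 16, 32], .dismiss 2),
    ([1, 6, 8, 16, 32], .dismiss 2),
    ([1, 6, 10, 16, 32], .dismiss 2)]

/-- certificates -/
def wdata7 : WData where
  gens := [6]
  words := [(0, []), (1, [0, 0]), (6, [0]), (7, [0, 0, 0])]
  subs := [
    ([1, 32], .cases [0, 2, 4, 6, 8, 10, 12, 14, 16, 18, 20, 22, 24, 26, 28, 30]
      [.oz 2,
        .oz 2,
        .oz 2,
        .oz 2,
        .oz 2,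
        .oz 2,
        .oz 2,
        .oz 2,
        .oz 2,
        .oz 2,
        .oz 2,
        .oz 2,
        .oz 2,
        .oz 2,
        .oz 2,
        .oz 2]),
    ([1, 2, 32], .cases [0, 4, 8, 12, 16, 20, 24, 28]
      [.oz 16,
        .oz 16,
        .oz 16,
        .oz 16,
        .oz 16,
        .oz 16,
        .oz 16,
        .oz 16]),
    ([1, 16, 32], .cases [0, 2, 4, 6, 8, 10, 12, 14]
      [.oz 2,
        .oz 2,
        .oz 2,
        .oz 2,
        .oz 2,
        .oz 2,
        .oz 2,
        .oz 2]),
    ([1, 18, 32], .cases [0, 2, 4, 6, 8, 10, 12, 14]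
      [.oz 2,
        .oz 2,
        .oz 2,
        .oz 2,
        .oz 2,
        .oz 2,
        .oz 2,
        .oz 2]),
    ([1, 2, 4, 32], .dismiss 16),
    ([1, 2, 16, 32], .cases [0, 4, 8, 12]
      [.oz 128,
        .oz 128,
        .oz 136,
        .oz 136]),
    ([1, 2, 20, 32], .dismiss 16),
    ([1, 8, 16, 32], .dismiss 2),
    ([1, 10, 16, 32], .dismiss 2),
    ([1, 12, 18, 32], .dismiss 2),
    ([1, 14, 18, 32], .dismiss 2),
    ([1, 2, 4, 16, 32], .cases [0, 8]
      [.big 8 [(4, 384), (384, 64), (2, 4)] [(16, 384)] [(16, 384)],
        .big 8 [(4, 392), (392, 112), (2, 4)] [(16, 392)] [(16, 392)]]),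
    ([1, 2, 8, 16, 32], .cases [0, 4]
      [.big 4 [(8, 384), (384, 64), (2, 8)] [(2, 384), (3, 384)] [(2, 384)],
        .big 4 [(8, 388), (388, 66), (2, 8)] [(2, 388), (3, 388)] [(2, 388)]]),
    ([1, 2, 12, 16, 32], .cases [0, 4]
      [.big 4 [(12, 384), (384, 64), (2, 12)] [(2, 384), (3, 384)] [(2, 384)],
        .big 4 [(12, 388), (388, 66), (2, 12)] [(2, 388), (3, 388)] [(2, 388)]])]

/-- certificates -/
def wdata8 : WData where
  gens := [2, 4]
  words := [(0, []), (1, [0, 1, 0, 1]), (2, [0]), (3, [1, 0, 1]), (4, [1]), (5, [0, 1, 0]), (6, [0, 1]), (7, [1, 0])]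
  subs := [
    ([1, 32], .cases [0, 2, 4, 6, 8, 10, 12, 14, 16, 18, 20, 22, 24, 26, 28, 30]
      [.oz 2,
        .oz 2,
        .oz 2,
        .oz 2,
        .bad 112 264,
        .bad 113 266,
        .bad 115 268,
        .bad 114 270,
        .oz 2,
        .oz 2,
        .oz 2,
        .oz 2,
        .bad 80 280,
        .bad 81 282,
        .bad 83 284,
        .bad 82 286,
        .oz 2,
        .oz 2,
        .oz 2,
        .oz 2,
        .bad 113 264,
        .bad 112 266,
        .bad 114 268,
        .bad 115 270,
        .oz 2,
        .oz 2,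
        .oz 2,
        .oz 2,
        .bad 81 280,
        .bad 80 282,
        .bad 82 284,
        .bad 83 286,
        .bad 66 132,
        .bad 67 132,
        .bad 65 132,
        .bad 64 132,
        .bad 114 132,
        .bad 115 132,
        .bad 113 132,
        .bad 112 132,
        .bad 98 132,
        .bad 99 132,
        .bad 97 132,
        .bad 96 132,
        .bad 82 132,
        .bad 83 132,
        .bad 81 132,
        .bad 80 132,
        .bad 67 134,
        .bad 66 134,
        .bad 64 134,
        .bad 65 134,
        .bad 115 134,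
        .bad 114 134,
        .bad 112 134,
        .bad 113 134,
        .bad 99 134,
        .bad 98 134,
        .bad 96 134,
        .bad 97 134,
        .bad 83 134,
        .bad 82 134,
        .bad 80 134,
        .bad 81 134,
        .oz 2,
        .oz 2,
        .oz 2,
        .oz 2,
        .bad 64 264,
        .bad 65 266,
        .bad 67 268,
        .bad 66 270,
        .oz 2,
        .oz 2,
        .oz 2,
        .oz 2,
        .bad 96 280,
        .bad 97 282,
        .bad 99 284,
        .bad 98 286,
        .oz 2,
        .oz 2,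
        .oz 2,
        .oz 2,
        .bad 65 264,
        .bad 64 266,
        .bad 66 268,
        .bad 67 270,
        .oz 2,
        .oz 2,
        .oz 2,
        .oz 2,
        .bad 97 280,
        .bad 96 282,
        .bad 98 284,
        .bad 99 286,
        .bad 114 140,
        .bad 115 140,
        .bad 113 140,
        .bad 112 140,
        .bad 66 140,
        .bad 67 140,
        .bad 65 140,
        .bad 64 140,
        .bad 82 140,
        .bad 83 140,
        .bad 81 140,
        .bad 80 140,
        .bad 98 140,
        .bad 99 140,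
        .bad 97 140,
        .bad 96 140,
        .bad 115 142,
        .bad 114 142,
        .bad 112 142,
        .bad 113 142,
        .bad 67 142,
        .bad 66 142,
        .bad 64 142,
        .bad 65 142,
        .bad 83 142,
        .bad 82 142,
        .bad 80 142,
        .bad 81 142,
        .bad 99 142,
        .bad 98 142,
        .bad 96 142,
        .bad 97 142,
        .oz 2,
        .oz 2,
        .oz 2,
        .oz 2,
        .bad 80 264,
        .bad 81 266,
        .bad 83 268,
        .bad 82 270,
        .oz 2,
        .oz 2,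
        .oz 2,
        .oz 2,
        .bad 112 280,
        .bad 113 282,
        .bad 115 284,
        .bad 114 286,
        .oz 2,
        .oz 2,
        .oz 2,
        .oz 2,
        .bad 81 264,
        .bad 80 266,
        .bad 82 268,
        .bad 83 270,
        .oz 2,
        .oz 2,
        .oz 2,
        .oz 2,
        .bad 113 280,
        .bad 112 282,
        .bad 114 284,
        .bad 115 286,
        .bad 98 148,
        .bad 99 148,
        .bad 97 148,
        .bad 96 148,
        .bad 82 148,
        .bad 83 148,
        .bad 81 148,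
        .bad 80 148,
        .bad 66 148,
        .bad 67 148,
        .bad 65 148,
        .bad 64 148,
        .bad 114 148,
        .bad 115 148,
        .bad 113 148,
        .bad 112 148,
        .bad 99 150,
        .bad 98 150,
        .bad 96 150,
        .bad 97 150,
        .bad 83 150,
        .bad 82 150,
        .bad 80 150,
        .bad 81 150,
        .bad 67 150,
        .bad 66 150,
        .bad 64 150,
        .bad 65 150,
        .bad 115 150,
        .bad 114 150,
        .bad 112 150,
        .bad 113 150,
        .oz 2,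
        .oz 2,
        .oz 2,
        .oz 2,
        .bad 96 264,
        .bad 97 266,
        .bad 99 268,
        .bad 98 270,
        .oz 2,
        .oz 2,
        .oz 2,
        .oz 2,
        .bad 64 280,
        .bad 65 282,
        .bad 67 284,
        .bad 66 286,
        .oz 2,
        .oz 2,
        .oz 2,
        .oz 2,
        .bad 97 264,
        .bad 96 266,
        .bad 98 268,
        .bad 99 270,
        .oz 2,
        .oz 2,
        .oz 2,
        .oz 2,
        .bad 65 280,
        .bad 64 282,
        .bad 66 284,
        .bad 67 286,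
        .bad 82 156,
        .bad 83 156,
        .bad 81 156,
        .bad 80 156,
        .bad 98 156,
        .bad 99 156,
        .bad 97 156,
        .bad 96 156,
        .bad 114 156,
        .bad 115 156,
        .bad 113 156,
        .bad 112 156,
        .bad 66 156,
        .bad 67 156,
        .bad 65 156,
        .bad 64 156,
        .bad 83 158,
        .bad 82 158,
        .bad 80 158,
        .bad 81 158,
        .bad 99 158,
        .bad 98 158,
        .bad 96 158,
        .bad 97 158,
        .bad 115 158,
        .bad 114 158,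
        .bad 112 158,
        .bad 113 158,
        .bad 67 158,
        .bad 66 158,
        .bad 64 158,
        .bad 65 158]),
    ([1, 2, 32], .cases [0, 4, 8, 12, 16, 20, 24, 28]
      [.oz 16,
        .oz 16,
        .bad 112 264,
        .bad 115 268,
        .oz 16,
        .oz 16,
        .bad 80 280,
        .bad 83 284,
        .oz 16,
        .oz 16,
        .bad 114 264,
        .bad 113 268,
        .oz 16,
        .oz 16,
        .bad 82 280,
        .bad 81 284,
        .oz 16,
        .oz 16,
        .bad 64 264,
        .bad 67 268,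
        .oz 16,
        .oz 16,
        .bad 96 280,
        .bad 99 284,
        .oz 16,
        .oz 16,
        .bad 66 264,
        .bad 65 268,
        .oz 16,
        .oz 16,
        .bad 98 280,
        .bad 97 284,
        .oz 16,
        .oz 16,
        .bad 80 264,
        .bad 83 268,
        .oz 16,
        .oz 16,
        .bad 112 280,
        .bad 115 284,
        .oz 16,
        .oz 16,
        .bad 82 264,
        .bad 81 268,
        .oz 16,
        .oz 16,
        .bad 114 280,
        .bad 113 284,
        .oz 16,
        .oz 16,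
        .bad 96 264,
        .bad 99 268,
        .oz 16,
        .oz 16,
        .bad 64 280,
        .bad 67 284,
        .oz 16,
        .oz 16,
        .bad 98 264,
        .bad 97 268,
        .oz 16,
        .oz 16,
        .bad 66 280,
        .bad 65 284]),
    ([1, 16, 32], .cases [0, 2, 4, 6, 8, 10, 12, 14]
      [.oz 2,
        .oz 2,
        .oz 2,
        .oz 2,
        .oz 2,
        .oz 2,
        .oz 2,
        .oz 2,
        .oz 2,
        .oz 2,
        .oz 2,
        .oz 2,
        .oz 2,
        .oz 2,
        .oz 2,
        .oz 2,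
        .bad 66 132,
        .bad 67 132,
        .bad 65 132,
        .bad 64 132,
        .bad 114 132,
        .bad 115 132,
        .bad 113 132,
        .bad 112 132,
        .bad 67 134,
        .bad 66 134,
        .bad 64 134,
        .bad 65 134,
        .bad 115 134,
        .bad 114 134,
        .bad 112 134,
        .bad 113 134,
        .oz 2,
        .oz 2,
        .oz 2,
        .oz 2,
        .oz 2,
        .oz 2,
        .oz 2,
        .oz 2,
        .oz 2,
        .oz 2,
        .oz 2,
        .oz 2,
        .oz 2,
        .oz 2,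
        .oz 2,
        .oz 2,
        .bad 114 140,
        .bad 115 140,
        .bad 113 140,
        .bad 112 140,
        .bad 66 140,
        .bad 67 140,
        .bad 65 140,
        .bad 64 140,
        .bad 115 142,
        .bad 114 142,
        .bad 112 142,
        .bad 113 142,
        .bad 67 142,
        .bad 66 142,
        .bad 64 142,
        .bad 65 142]),
    ([1, 18, 32], .cases [0, 2, 4, 6, 8, 10, 12, 14]
      [.oz 2,
        .oz 2,
        .oz 2,
        .oz 2,
        .bad 112 264,
        .bad 113 266,
        .bad 115 268,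
        .bad 114 270,
        .oz 2,
        .oz 2,
        .oz 2,
        .oz 2,
        .bad 113 264,
        .bad 112 266,
        .bad 114 268,
        .bad 115 270,
        .bad 66 132,
        .bad 67 132,
        .bad 65 132,
        .bad 64 132,
        .bad 114 132,
        .bad 115 132,
        .bad 113 132,
        .bad 112 132,
        .bad 67 134,
        .bad 66 134,
        .bad 64 134,
        .bad 65 134,
        .bad 115 134,
        .bad 114 134,
        .bad 112 134,
        .bad 113 134,
        .oz 2,
        .oz 2,
        .oz 2,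
        .oz 2,
        .bad 64 264,
        .bad 65 266,
        .bad 67 268,
        .bad 66 270,
        .oz 2,
        .oz 2,
        .oz 2,
        .oz 2,
        .bad 65 264,
        .bad 64 266,
        .bad 66 268,
        .bad 67 270,
        .bad 114 140,
        .bad 115 140,
        .bad 113 140,
        .bad 112 140,
        .bad 66 140,
        .bad 67 140,
        .bad 65 140,
        .bad 64 140,
        .bad 115 142,
        .bad 114 142,
        .bad 112 142,
        .bad 113 142,
        .bad 67 142,
        .bad 66 142,
        .bad 64 142,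
        .bad 65 142]),
    ([1, 2, 4, 32], .dismiss 16),
    ([1, 2, 16, 32], .cases [0, 4, 8, 12]
      [.big 4 [(18, 384), (128, 258)] [(2, 256)] [(2, 256)],
        .big 4 [(18, 390), (128, 262)] [(2, 260)] [(2, 260)],
        .big 4 [(264, 18), (128, 392)] [(2, 264)] [(2, 264)],
        .big 4 [(268, 18), (128, 398)] [(2, 268)] [(2, 268)],
        .big 4 [(132, 18), (256, 452)] [(2, 256)] [(2, 256)],
        .big 4 [(132, 18), (260, 448)] [(2, 260)] [(2, 260)],
        .big 4 [(132, 264), (18, 396)] [(2, 264)] [(2, 264)],
        .big 4 [(132, 268), (18, 394)] [(2, 268)] [(2, 268)],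
        .big 4 [(18, 392), (136, 258)] [(2, 256)] [(2, 256)],
        .big 4 [(18, 398), (136, 262)] [(2, 260)] [(2, 260)],
        .big 4 [(264, 18), (136, 384)] [(2, 264)] [(2, 264)],
        .big 4 [(268, 18), (136, 390)] [(2, 268)] [(2, 268)],
        .big 4 [(140, 18), (256, 476)] [(2, 256)] [(2, 256)],
        .big 4 [(140, 18), (260, 472)] [(2, 260)] [(2, 260)],
        .big 4 [(140, 264), (18, 388)] [(2, 264)] [(2, 264)],
        .big 4 [(140, 268), (18, 386)] [(2, 268)] [(2, 268)]]),
    ([1, 2, 20, 32], .dismiss 16),
    ([1, 8, 16, 32], .dismiss 2),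
    ([1, 10, 16, 32], .dismiss 2),
    ([1, 2, 4, 16, 32], .cases [0, 8]
      [.big 8 [(18, 132), (384, 448), (4, 128), (128, 256)] [(16, 128)] [(16, 128)],
        .big 8 [(264, 132), (128, 392)] [(16, 128)] [],
        .big 8 [(18, 140), (392, 472), (4, 136), (136, 256)] [(16, 136)] [(16, 136)],
        .big 8 [(264, 140), (136, 384)] [(16, 136)] []]),
    ([1, 2, 8, 16, 32], .cases [0, 4]
      [.big 4 [(18, 264), (384, 448), (8, 256), (128, 256)] [(2, 256)] [(2, 256)],
        .big 4 [(18, 268), (390, 452), (8, 260), (128, 260)] [(2, 260)] [(2, 260)],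
        .big 4 [(132, 264), (256, 452)] [(2, 256)] [],
        .big 4 [(132, 268), (260, 448)] [(2, 260)] []]),
    ([1, 2, 12, 16, 32], .cases [0, 4]
      [.big 4 [(140, 268), (12, 18)] [(2, 256)] [(2, 256)],
        .big 4 [(140, 264), (12, 18)] [(2, 260)] [(2, 260)],
        .big 4 [(132, 268), (12, 18)] [(2, 256)] [(2, 256)],
        .big 4 [(132, 264), (12, 18)] [(2, 260)] [(2, 260)]])]

/-- all certificates -/
def wdataAll : List WData := [wdata0, wdata1, wdata2, wdata3, wdata4, wdata5, wdata6, wdata7, wdata8]

theorem wdata0_ok : (wdata0.groupB && wdata0.closedB && wdata0.subs.all fun s => planOk wdata0 s.1 s.2) = true := by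
  decide +kernel

theorem wdata1_ok : (wdata1.groupB && wdata1.closedB && wdata1.subs.all fun s => planOk wdata1 s.1 s.2) = true := by
  decide +kernel

theorem wdata2_ok : (wdata2.groupB && wdata2.closedB && wdata2.subs.all fun s => planOk wdata2 s.1 s.2) = true := by
  decide +kernel

theorem wdata3_ok : (wdata3.groupB && wdata3.closedB && wdata3.subs.all fun s => planOk wdata3 s.1 s.2) = true := by
  decide +kernel

theorem wdata4_ok : (wdata4.groupB && wdata4.closedB && wdata4.subs.all fun s => planOk wdata4 s.1 s.2) = true := by
  decide +kernel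

theorem wdata5_ok : (wdata5.groupB && wdata5.closedB && wdata5.subs.all fun s => planOk wdata5 s.1 s.2) = true := by
  decide +kernel

theorem wdata6_ok : (wdata6.groupB && wdata6.closedB && wdata6.subs.all fun s => planOk wdata6 s.1 s.2) = true := by
  decide +kernel

theorem wdata7_ok : (wdata7.groupB && wdata7.closedB && wdata7.subs.all fun s => planOk wdata7 s.1 s.2) = true := by
  decide +kernel

theorem wdata8_ok : (wdata8.groupB && wdata8.closedB && wdata8.subs.all fun s => planOk wdata8 s.1 s.2) = true := by
  decide +kernel

theorem subgroups_complete : ∀ m : Fin 256, m.val.testBit 0 = true → m.val ≠ 1 →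
    (∀ u w : Fin 8, m.val.testBit u.val = true → m.val.testBit w.val = true → m.val.testBit (pu u.val w.val) = true) →
    (wdataAll.any fun d => maskOf d.els == m.val) = true := by
  decide +kernel

end Cfsg.Agent.Local.M24A
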