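import Cfsg.Agent.Lib.Local.M24Abelian.Linear
import Cfsg.Agent.Lib.Fusion.Product.Local
import Mathlib

/-!
Fixed points of elements of odd order, and the exclusion of the larger groups.
-/

set_option autoImplicit false
set_option linter.style.haveILetI false
set_option linter.unusedSectionVars false
set_option maxRecDepth 100000

namespace Cfsg.Agent.Local.M24A

open Cfsg DihedralGroup

theorem rot_sum' : ∀ d : DihedralGroup 4, d * d ≠ 1 → ∀ x : Fin 64,
    x.val ^^^ act (dcode d).val x.val ^^^ act (dcode (d * d)).val x.val ^^^ act (dcode (d * d * d)).val x.val = 0 := by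
  decide +kernel

theorem four_third : ∀ d e : DihedralGroup 4, fourB d e = true → ∀ x : Fin 64, x.val ∈ imgL (dcode d).val →
    x.val ∈ imgL (dcode e).val → x.val ∈ imgL (dcode (d * e)).val := by decide +kernel

theorem four_facts' : ∀ d e : DihedralGroup 4, fourB d e = true →
    fourB e (d * e) = true ∧ d = e * (d * e) ∧
    (Finset.univ.filter fun x : Fin 64 => x.val ∈ imgL (dcode d).val).card = 4 := by decide +kernel

theorem fix_card : ∀ d : DihedralGroup 4, d * d = 1 → d ≠ 1 →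
    (Finset.univ.filter fun x : Fin 64 => act (dcode d).val x.val = x.val).card = 16 := by decide +kernel

universe u v

namespace Act

variable {X : Type u} [Group X] {V : Type v} [Group V] (M : Act X V)

/-- transport along an isomorphism -/
noncomputable def ofEquiv {Y : Type*} [Group Y] [Finite Y] [Finite X] (e : X ≃* Y) : Act Y V where
  c := M.c
  lt := M.lt
  inj := M.inj
  surj := M.surj
  add := M.add
  φ := M.φ.comp e.symm.toMonoidHom
  φ_inj := M.φ_inj.comp e.symm.injective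
  ρ := e.toMonoidHom.comp M.ρ
  hφρ := fun d v => by
    show M.c (M.φ (e.symm (e (M.ρ d))) v) = _
    rw [e.symm_apply_apply, M.hφρ]
  sylow := by
    haveI : Fact (Nat.Prime 2) := ⟨Nat.prime_two⟩
    obtain ⟨T, hT⟩ := M.sylow
    refine ⟨T.mapSurjective (f := e.toMonoidHom) e.surjective, ?_⟩
    show (T : Subgroup X).map e.toMonoidHom = _
    rw [hT, MonoidHom.range_comp]

theorem card_eq (p : Fin 64 → Prop) [DecidablePred p] :
    Nat.card {v : V // p ⟨M.c v, M.lt v⟩} = (Finset.univ.filter p).card := by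
  let f : {v : V // p ⟨M.c v, M.lt v⟩} → {x : Fin 64 // p x} := fun v => ⟨⟨M.c v.1, M.lt v.1⟩, v.2⟩
  have hf : Function.Bijective f := by
    refine ⟨fun a b e => Subtype.ext (M.inj (congrArg (fun z => z.1.val) e)), fun x => ?_⟩
    obtain ⟨v, hv⟩ := M.surj x.1.val x.1.isLt
    have e : (⟨M.c v, M.lt v⟩ : Fin 64) = x.1 := Fin.ext hv
    exact ⟨⟨v, e ▸ x.2⟩, Subtype.ext e⟩
  rw [Nat.card_eq_of_bijective f hf, Nat.card_eq_fintype_card, Fintype.card_subtype]

/-- the fixed points of `g` -/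
def fixG (g : X) : Subgroup V where
  carrier := {v | M.φ g v = v}
  one_mem' := map_one (M.φ g)
  mul_mem' := fun {a b} (ha : M.φ g a = a) (hb : M.φ g b = b) => show M.φ g (a * b) = a * b by rw [map_mul, ha, hb]
  inv_mem' := fun {a} (ha : M.φ g a = a) => show M.φ g a⁻¹ = a⁻¹ by rw [map_inv, ha]

theorem mem_fixG {g : X} {v : V} : v ∈ M.fixG g ↔ M.φ g v = v := Iff.rfl

/-- the commutator map of `g` -/
def dif (g : X) : V →* V where
  toFun v := M.φ g v * v
  map_one' := by rw [map_one, mul_one]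
  map_mul' a b := by
    rw [map_mul, M.comm a b, mul_assoc (M.φ g a), ← mul_assoc (M.φ g b) b a, M.comm (M.φ g b * b) a, ← mul_assoc]

theorem mem_dif {g : X} {v : V} : v ∈ (M.dif g).range ↔ M.inI g v := Iff.rfl

theorem card_fix_conj (k h : X) : Nat.card {v : V // M.φ (k * h * k⁻¹) v = v} = Nat.card {v : V // M.φ h v = v} := by
  refine (Nat.card_congr (Equiv.subtypeEquiv (M.φ k).toEquiv fun v => ?_)).symm
  show M.φ h v = v ↔ M.φ (k * h * k⁻¹) (M.φ k v) = M.φ k v
  rw [M.φ_mul, M.φ_mul, M.φ_inv_self]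
  exact (M.φ k).injective.eq_iff.symm

variable [Finite X]

/-- An element of odd order permuting the three involutions of a four-group: its common fixed points. -/
theorem fixed_common' {h : X} {d e : DihedralGroup 4} (hde : fourB d e = true)
    (h1 : h * M.ρ d * h⁻¹ = M.ρ e) (h2 : h * M.ρ e * h⁻¹ = M.ρ (d * e)) :
    (∀ v, M.φ h v = v → M.φ (M.ρ d) v = v → M.φ (M.ρ e) v = v → M.inI (M.ρ d) v ∧ M.inI (M.ρ e) v) ∧
    Nat.card {v : V // M.φ h v = v} ≤ 4 := by
  haveI := M.finite_V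
  obtain ⟨g1, g2, g3⟩ := four_facts' d e hde
  have h3 : h * M.ρ (d * e) * h⁻¹ = M.ρ d := by
    conv_rhs => rw [g2]
    rw [map_mul, map_mul M.ρ e (d * e), ← h1, ← h2, ← h1]
    group
  have hfix : ∀ v, M.φ h v = v → M.φ (M.ρ d) v = v → M.φ (M.ρ e) v = v → M.inI (M.ρ d) v ∧ M.inI (M.ρ e) v := by
    intro v hv hd he
    have c1 : M.inI (M.ρ d) v → M.inI (M.ρ e) v := fun H => by
      have := M.inI_conj (h := h) H
      rwa [h1, hv] at this
    have c2 : M.inI (M.ρ e) v → M.inI (M.ρ (d * e)) v := fun H => by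
      have := M.inI_conj (h := h) H
      rwa [h2, hv] at this
    have c3 : M.inI (M.ρ (d * e)) v → M.inI (M.ρ d) v := fun H => by
      have := M.inI_conj (h := h) H
      rwa [h3, hv] at this
    rcases four_fixed d e hde ⟨_, M.lt v⟩ ((M.fix_iff d v).1 hd) ((M.fix_iff e v).1 he) with H | H | H
    · exact ⟨(M.inI_iff d v).2 H, c1 ((M.inI_iff d v).2 H)⟩
    · exact ⟨c3 (c2 ((M.inI_iff e v).2 H)), (M.inI_iff e v).2 H⟩
    · exact ⟨c3 ((M.inI_iff _ v).2 H), c1 (c3 ((M.inI_iff _ v).2 H))⟩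
  refine ⟨hfix, ?_⟩
  obtain ⟨x, hx0, hxd, hxe⟩ := four_exists d e hde
  obtain ⟨l, hl⟩ := M.surj x.val x.isLt
  have hl1 : l ≠ 1 := fun e' => hx0 (by rw [← hl, e', M.c_one])
  have hld : M.inI (M.ρ d) l := (M.inI_iff _ _).2 (hl.symm ▸ hxd)
  have hle : M.inI (M.ρ e) l := (M.inI_iff _ _).2 (hl.symm ▸ hxe)
  have huniq : ∀ w, M.inI (M.ρ d) w → M.inI (M.ρ e) w → w ≠ 1 → w = l := fun w w1 w2 w3 =>
    M.inj ((congrArg Fin.val (four_unique d e hde ⟨_, M.lt w⟩ ((M.inI_iff _ _).1 w1) ((M.inI_iff _ _).1 w2)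
      (fun e' => w3 (M.c_eq_zero e')) x hxd hxe hx0)).trans hl.symm)
  -- the line is fixed
  have hlh : M.φ h l = l := by
    have a1 : M.inI (M.ρ e) (M.φ h l) := h1 ▸ M.inI_conj hld
    have a2 : M.inI (M.ρ (d * e)) (M.φ h l) := h2 ▸ M.inI_conj hle
    have a3 := four_third e (d * e) g1 ⟨_, M.lt _⟩ ((M.inI_iff _ _).1 a1) ((M.inI_iff _ _).1 a2)
    rw [← g2] at a3
    exact huniq _ ((M.inI_iff _ _).2 a3) a1 fun e' => hl1 ((M.φ h).map_eq_one_iff.1 e')
  let f : M.fixG h →* V := (M.dif (M.ρ d)).comp (M.fixG h).subtype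
  have hfd : ∀ w : M.fixG h, M.φ h (f w) = M.φ (M.ρ e) w * w ∧
      M.φ h (M.φ (M.ρ e) w * w) = M.φ (M.ρ (d * e)) w * w := fun w => by
    have hw : M.φ h (w : V) = w := w.2
    have hw' : M.φ h⁻¹ (w : V) = w := by
      have := M.φ_inv_self h (w : V)
      rwa [hw] at this
    refine ⟨?_, ?_⟩
    · show M.φ h (M.φ (M.ρ d) w * w) = _
      rw [map_mul, hw, ← h1, M.φ_mul, M.φ_mul, hw']
    · rw [map_mul, hw, ← h2, M.φ_mul, M.φ_mul, hw']
  have hker : Nat.card f.ker ≤ 2 := by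
    have hk : ∀ w : f.ker, M.inI (M.ρ d) (w.1 : V) ∧ M.inI (M.ρ e) (w.1 : V) := fun w => by
      have a1 : M.φ (M.ρ d) (w.1 : V) * (w.1 : V) = 1 := w.2
      have a2 := (hfd w.1).1
      rw [show f w.1 = 1 from w.2, map_one] at a2
      exact hfix _ w.1.2 (mul_right_cancel (a1.trans (M.sq _).symm)) (mul_right_cancel (a2.symm.trans (M.sq _).symm))
    have hinj : Function.Injective fun w : f.ker => (decide (M.c (w.1 : V) = 0) : Bool) := by
      intro a b hab
      refine Subtype.ext (Subtype.ext ?_)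
      by_cases ha : M.c (a.1 : V) = 0
      · have hb : M.c (b.1 : V) = 0 := by simpa [ha] using hab.symm
        exact M.inj (ha.trans hb.symm)
      · have hb : M.c (b.1 : V) ≠ 0 := by simpa [ha] using hab.symm
        rw [huniq _ (hk a).1 (hk a).2 (fun e' => ha (by rw [e', M.c_one])),
          huniq _ (hk b).1 (hk b).2 (fun e' => hb (by rw [e', M.c_one]))]
    simpa using Nat.card_le_card_of_injective _ hinj
  have hJ : Nat.card (M.dif (M.ρ d)).range = 4 := by
    exact (Nat.card_congr (Equiv.subtypeEquivRight fun v => M.inI_iff d v)).trans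
      ((M.card_eq fun x => x.val ∈ imgL (dcode d).val).trans g3)
  have hR : Nat.card f.range ≤ 2 := by
    have hle' : f.range ≤ (M.dif (M.ρ d)).range := by rintro _ ⟨w, rfl⟩; exact ⟨_, rfl⟩
    have hdvd := Subgroup.card_dvd_of_le hle'
    rw [hJ] at hdvd
    have hle4 : Nat.card f.range ≤ 4 := Nat.le_of_dvd (by norm_num) hdvd
    have hne : Nat.card f.range ≠ 4 := fun e4 => by
      have heq : f.range = (M.dif (M.ρ d)).range := Subgroup.eq_of_le_of_card_ge hle' (by rw [hJ, e4])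
      obtain ⟨w, hw⟩ : l ∈ f.range := heq ▸ hld
      obtain ⟨a1, a2⟩ := hfd w
      rw [hw, hlh] at a1
      rw [← a1, hlh] at a2
      -- the three commutators add up to zero
      have b1 : M.φ (M.ρ d) (w : V) = l * w := by
        have hw' : M.φ (M.ρ d) (w : V) * w = l := hw
        rw [← hw', mul_assoc, M.sq, mul_one]
      have b2 : M.φ (M.ρ e) (w : V) = l * w := by rw [a1, mul_assoc, M.sq, mul_one]
      have b3 : M.φ (M.ρ (d * e)) (w : V) = l * w := by rw [a2, mul_assoc, M.sq, mul_one]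
      have b4 : M.φ (M.ρ d) l = l := by
        simp only [fourB, Bool.and_eq_true, decide_eq_true_iff] at hde
        obtain ⟨b, hb⟩ := hld
        have hdd : M.φ (M.ρ d) (M.φ (M.ρ d) b) = b := by rw [← M.φ_mul, ← map_mul, hde.1.1.1.1.1, map_one, map_one]; rfl
        rw [← hb, map_mul, hdd, M.comm]
      rw [map_mul, M.φ_mul, b2, map_mul, b4, b1, ← mul_assoc, M.sq, one_mul] at b3
      exact hl1 (mul_right_cancel (b3.symm.trans (one_mul (w : V)).symm))
    have h3' : Nat.card f.range ≠ 3 := fun e3 => by rw [e3] at hdvd; omega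
    omega
  calc Nat.card {v : V // M.φ h v = v} = Nat.card (M.fixG h) := rfl
    _ = Nat.card ((M.fixG h) ⧸ f.ker) * Nat.card f.ker := Subgroup.card_eq_card_quotient_mul_card_subgroup _
    _ ≤ 2 * 2 := Nat.mul_le_mul (by rwa [Nat.card_congr (QuotientGroup.quotientKerEquivRange f).toEquiv]) hker
    _ = 4 := rfl

/-- The same for any four-group. -/
theorem fixed_common {h a b : X} (ha : a * a = 1) (hb : b * b = 1) (ha1 : a ≠ 1) (hb1 : b ≠ 1) (hab : a ≠ b)
    (hc : a * b = b * a) (h1 : h * a * h⁻¹ = b) (h2 : h * b * h⁻¹ = a * b) :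
    (∀ v, M.φ h v = v → M.φ a v = v → M.φ b v = v → M.inI a v ∧ M.inI b v) ∧
    Nat.card {v : V // M.φ h v = v} ≤ 4 := by
  have hP : IsPGroup 2 (Subgroup.closure ({a, b} : Set X)) := by
    have hz : ∀ x : X, x * x = 1 → IsPGroup 2 (Subgroup.zpowers x) := fun x hx => by
      haveI : Fact (Nat.Prime 2) := ⟨Nat.prime_two⟩
      obtain ⟨j, -, hj⟩ := (Nat.dvd_prime_pow Nat.prime_two).1
        (orderOf_dvd_of_pow_eq_one (show x ^ (2 ^ 1) = 1 by rw [pow_one, pow_two, hx]))
      exact IsPGroup.of_card (n := j) (by rw [Nat.card_zpowers, hj])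
    have hcb : Subgroup.zpowers a ≤ Subgroup.normalizer ((Subgroup.zpowers b : Subgroup X) : Set X) := by
      refine Subgroup.zpowers_le.2 (Subgroup.mem_normalizer_iff.2 fun x => ?_)
      have e : ∀ y ∈ Subgroup.zpowers b, a * y * a⁻¹ = y := fun y hy => by
        obtain ⟨j, rfl⟩ := hy
        show a * b ^ j * a⁻¹ = b ^ j
        rw [(show Commute a b from hc).zpow_right j |>.eq, mul_inv_cancel_right]
      refine ⟨fun hx => by rw [e x hx]; exact hx, fun hx => ?_⟩
      have e2 := e _ hx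
      have e3 : a * x * a⁻¹ = x := mul_left_cancel (mul_right_cancel e2)
      rwa [e3] at hx
    refine ((hz a ha).to_sup_of_normal_right' (hz b hb) hcb).to_le ((Subgroup.closure_le _).2 ?_)
    rintro x (rfl | rfl)
    · exact Subgroup.mem_sup_left (Subgroup.mem_zpowers x)
    · exact Subgroup.mem_sup_right (Subgroup.mem_zpowers x)
  obtain ⟨k, hk⟩ := M.conj_into hP
  obtain ⟨d, hd⟩ := hk a (Subgroup.subset_closure (Or.inl rfl))
  obtain ⟨e, he⟩ := hk b (Subgroup.subset_closure (Or.inr rfl))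
  have hde : fourB d e = true := by
    simp only [fourB, Bool.and_eq_true, decide_eq_true_iff, Bool.not_eq_true', decide_eq_false_iff_not]
    refine ⟨⟨⟨⟨⟨M.ρ_inj ?_, M.ρ_inj ?_⟩, fun e' => ?_⟩, fun e' => ?_⟩, fun e' => ?_⟩, M.ρ_inj ?_⟩
    · rw [map_mul, hd, map_one, show k * a * k⁻¹ * (k * a * k⁻¹) = k * (a * a) * k⁻¹ by group, ha]; group
    · rw [map_mul, he, map_one, show k * b * k⁻¹ * (k * b * k⁻¹) = k * (b * b) * k⁻¹ by group, hb]; group
    · exact ha1 (conj_eq_one_iff.1 (by rw [← hd, e', map_one]))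
    · exact hb1 (conj_eq_one_iff.1 (by rw [← he, e', map_one]))
    · exact hab (mul_left_cancel (mul_right_cancel (hd.symm.trans ((congrArg M.ρ e').trans he))))
    · rw [map_mul, map_mul, hd, he, show k * a * k⁻¹ * (k * b * k⁻¹) = k * (a * b) * k⁻¹ by group, hc]; group
  obtain ⟨f1, f2⟩ := M.fixed_common' (h := k * h * k⁻¹) hde (by rw [hd, he, ← h1]; group)
    (by rw [map_mul, hd, he, show k * a * k⁻¹ * (k * b * k⁻¹) = k * (a * b) * k⁻¹ by group, ← h2]; group)
  refine ⟨fun v v1 v2 v3 => ?_, (M.card_fix_conj k h).symm.trans_le f2⟩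
  have hcv : ∀ g, M.φ g v = v → M.φ (k * g * k⁻¹) (M.φ k v) = M.φ k v := fun g hg => by
    rw [M.φ_mul, M.φ_mul, M.φ_inv_self, hg]
  obtain ⟨i1, i2⟩ := f1 (M.φ k v) (hcv h v1) (hd ▸ hcv a v2) (he ▸ hcv b v3)
  have hback : ∀ g, M.inI (k * g * k⁻¹) (M.φ k v) → M.inI g v := fun g hg => by
    have := M.inI_conj (h := k⁻¹) hg
    rwa [M.φ_inv_self, show k⁻¹ * (k * g * k⁻¹) * k⁻¹⁻¹ = g by group] at this
  exact ⟨hback a (hd ▸ i1), hback b (he ▸ i2)⟩

include M in
/-- the four terms of an element of order four -/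
theorem order_four_sum {g : X} (h4 : g ^ 4 = 1) (h2 : g * g ≠ 1) (v : V) :
    v * M.φ g v * M.φ (g * g) v * M.φ (g * g * g) v = 1 := by
  haveI : Fact (Nat.Prime 2) := ⟨Nat.prime_two⟩
  have hP : IsPGroup 2 (Subgroup.zpowers g) := by
    obtain ⟨j, -, hj⟩ := (Nat.dvd_prime_pow Nat.prime_two).1 (orderOf_dvd_of_pow_eq_one (show g ^ (2 ^ 2) = 1 from h4))
    exact IsPGroup.of_card (n := j) (by rw [Nat.card_zpowers, hj])
  obtain ⟨k, hk⟩ := M.conj_into hP
  obtain ⟨d, hd⟩ := hk g (Subgroup.mem_zpowers g)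
  have hdd : d * d ≠ 1 := fun e => h2 ((conj_eq_one_iff (a := k)).1 (by
    rw [show k * (g * g) * k⁻¹ = k * g * k⁻¹ * (k * g * k⁻¹) by group, ← hd, ← map_mul, e, map_one]))
  refine (M.φ k).map_eq_one_iff.1 (M.c_eq_zero ?_)
  have e : ∀ (g' : X) (d' : DihedralGroup 4), M.ρ d' = k * g' * k⁻¹ →
      M.c (M.φ k (M.φ g' v)) = act (dcode d').val (M.c (M.φ k v)) := fun g' d' h => by
    rw [← M.hφρ, h, M.φ_mul, M.φ_mul, M.φ_inv_self]
  rw [map_mul, map_mul, map_mul, M.add, M.add, M.add, e g d hd,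
    e (g * g) (d * d) (by rw [map_mul, hd]; group), e (g * g * g) (d * d * d) (by rw [map_mul, map_mul, hd]; group)]
  exact rot_sum' d hdd ⟨_, M.lt _⟩

theorem order_three_incl {g a b : X} (h4 : g ^ 4 = 1) (h2 : g * g ≠ 1) (ha : a * a * a = 1)
    (hc : a * b = b * a) (hga : g * a * g⁻¹ = b) (hgb : g * b * g⁻¹ = a⁻¹)
    {v : V} (hv : M.φ b v = v) : M.φ a v = v := by
  set z0 := v
  set z1 := M.φ g v with hz1
  set z2 := M.φ (g * g) v with hz2
  set z3 := M.φ (g * g * g) v with hz3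
  have hsum : z0 * z1 * z2 * z3 = 1 := M.order_four_sum h4 h2 v
  have hsum' := M.order_four_sum h4 h2 (M.φ a v)
  have hmv : ∀ p q r : X, p * q * p⁻¹ = r → ∀ w, M.φ r (M.φ p w) = M.φ p (M.φ q w) := fun p q r h w => by
    rw [← M.φ_mul, ← M.φ_mul, ← h, inv_mul_cancel_right]
  have hbinv : g * g * b * (g * g)⁻¹ = b⁻¹ := by
    rw [show g * g * b * (g * g)⁻¹ = g * (g * b * g⁻¹) * g⁻¹ by group, hgb, show g * a⁻¹ * g⁻¹ = (g * a * g⁻¹)⁻¹ by group, hga]
  have hainv : g * g * a * (g * g)⁻¹ = a⁻¹ := by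
    rw [show g * g * a * (g * g)⁻¹ = g * (g * a * g⁻¹) * g⁻¹ by group, hga, hgb]
  have ha3 : g * g * g * b * (g * g * g)⁻¹ = a := by
    rw [show g * g * g * b * (g * g * g)⁻¹ = g * (g * g * b * (g * g)⁻¹) * g⁻¹ by group, hbinv,
      show g * b⁻¹ * g⁻¹ = (g * b * g⁻¹)⁻¹ by group, hgb, inv_inv]
  have hb3 : g * g * g * a * (g * g * g)⁻¹ = b⁻¹ := by
    rw [show g * g * g * a * (g * g * g)⁻¹ = g * (g * g * a * (g * g)⁻¹) * g⁻¹ by group, hainv,
      show g * a⁻¹ * g⁻¹ = (g * a * g⁻¹)⁻¹ by group, hga]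
  have haa : a⁻¹ = a * a := inv_eq_of_mul_eq_one_right (by rw [← mul_assoc]; exact ha)
  have hz1a : M.φ a z1 = z1 := by
    have e := hmv g b a⁻¹ hgb v
    rw [hv, ← hz1] at e
    calc M.φ a z1 = M.φ a (M.φ a⁻¹ z1) := by rw [e]
      _ = z1 := M.φ_self_inv a z1
  have hz3a : M.φ a z3 = z3 := by
    have e := hmv _ b a ha3 v
    rwa [hv, ← hz3] at e
  rw [← hmv g a b hga, ← hmv _ a a⁻¹ hainv, ← hmv _ a b⁻¹ hb3, ← hz1, ← hz2, ← hz3] at hsum'
  let D : V → V := fun w => M.φ a w * M.φ a (M.φ a w)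
  have hD : ∀ p q, D (p * q) = D p * D q := fun p q => by
    simp only [D, map_mul]
    rw [mul_assoc, mul_assoc, ← mul_assoc (M.φ a q), M.comm (M.φ a q) (M.φ a (M.φ a p)), mul_assoc]
  have hD1 : ∀ w, M.φ a w = w → D w = 1 := fun w hw => by simp only [D, hw, M.sq]
  have hDone : D 1 = 1 := hD1 1 (map_one _)
  have hDc : ∀ x w, a * x = x * a → D (M.φ x w) = M.φ x (D w) := fun x w hx => by
    simp only [D, map_mul, M.φ_comm hx]
  have e1 : D z0 * D z2 = 1 := by
    have := congrArg D hsum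
    rw [hD, hD, hD, hDone, hD1 z1 hz1a, hD1 z3 hz3a, mul_one, mul_one] at this
    exact this
  have e2 : M.φ a (D z0) * M.φ a⁻¹ (D z2) = 1 := by
    have := congrArg D hsum'
    have hcb : a * b⁻¹ = b⁻¹ * a := Commute.inv_right hc
    rw [hD, hD, hD, hDone, hDc b z1 hc, hD1 z1 hz1a, hDc b⁻¹ z3 hcb, hD1 z3 hz3a, map_one, map_one, mul_one, mul_one,
      hDc a z0 rfl, hDc a⁻¹ z2 (Commute.inv_right (Commute.refl a))] at this
    exact this
  have e3 : D z2 = D z0 := by
    rw [← M.sq_mul (D z0) (D z2), e1, mul_one]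
  rw [e3, haa, M.φ_mul] at e2
  -- twice fixed
  have e4 : M.φ a (M.φ a (D z0)) = M.φ a (D z0) := by
    rw [← M.sq_mul (M.φ a (D z0)) (M.φ a (M.φ a (D z0))), e2, mul_one]
  have e5 : M.φ a (D z0) = D z0 := (M.φ a).injective e4
  have e6 : M.φ a (M.φ a (M.φ a z0)) = z0 := by rw [← M.φ_mul, ← M.φ_mul, ha, map_one]; rfl
  simp only [D, map_mul, e6] at e5
  rw [M.comm (M.φ a z0) (M.φ a (M.φ a z0))] at e5
  exact (mul_left_cancel e5).symm

include M in
/-- There is no noncyclic group of order nine with a cyclic group of order four of this kind. -/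
theorem no_three_sq {g a b : X} (h4 : g ^ 4 = 1) (h2 : g * g ≠ 1) (ha : a * a * a = 1) (hb : b * b * b = 1)
    (hc : a * b = b * a) (hga : g * a * g⁻¹ = b) (hgb : g * b * g⁻¹ = a⁻¹) : a = 1 := by
  have hB : ∀ v, M.φ b v = v → M.φ a v = v := fun v hv => M.order_three_incl h4 h2 ha hc hga hgb hv
  have hcu : (a * b) * (b * a⁻¹) = (b * a⁻¹) * (a * b) :=
    (Commute.mul_right (show Commute (a * b) b from (show Commute a b from hc).mul_left (Commute.refl b))
      (Commute.inv_right ((Commute.refl a).mul_left (show Commute b a from hc.symm)))).eq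
  have hai : a⁻¹ * a⁻¹ * a⁻¹ = 1 := by rw [← mul_inv_rev, ← mul_inv_rev, show a * (a * a) = a * a * a by group, ha, inv_one]
  have c3 : ∀ p q : X, p * q = q * p → p * p * p = 1 → q * q * q = 1 → (p * q) * (p * q) * (p * q) = 1 :=
    fun p q hpq hp hq => by
      have e : (p * q) ^ 3 = p ^ 3 * q ^ 3 := (show Commute p q from hpq).mul_pow 3
      rwa [pow_three', pow_three', pow_three', hp, hq, one_mul] at e
  have hv1 : g * (a * b) * g⁻¹ = b * a⁻¹ := by
    rw [show g * (a * b) * g⁻¹ = g * a * g⁻¹ * (g * b * g⁻¹) by group, hga, hgb]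
  have hv2 : g * (b * a⁻¹) * g⁻¹ = (a * b)⁻¹ := by
    rw [show g * (b * a⁻¹) * g⁻¹ = g * b * g⁻¹ * (g * a * g⁻¹)⁻¹ by group, hga, hgb, ← mul_inv_rev, hc]
  have h3u : (a * b) * (a * b) * (a * b) = 1 := c3 a b hc ha hb
  have h3w : (b * a⁻¹) * (b * a⁻¹) * (b * a⁻¹) = 1 := c3 b a⁻¹ (Commute.inv_right (show Commute b a from hc.symm)) hb hai
  -- fixed by either product, hence by both
  have hU : ∀ v, M.φ (b * a⁻¹) v = v → M.φ (a * b) v = v := fun v hv =>
    M.order_three_incl h4 h2 h3u hcu hv1 hv2 hv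
  have hW : ∀ v, M.φ (a * b) v = v → M.φ (b * a⁻¹) v = v := fun v hv => by
    refine M.order_three_incl (a := b * a⁻¹) (b := (a * b)⁻¹) h4 h2 h3w (Commute.inv_right hcu.symm) hv2 ?_ ?_
    · rw [show g * (a * b)⁻¹ * g⁻¹ = (g * (a * b) * g⁻¹)⁻¹ by group, hv1]
    · have := M.φ_inv_self (a * b) v
      rwa [hv] at this
  have hAB : ∀ v, M.φ (a * b) v = v → M.φ a v = v := fun v hv => by
    have h' := hW v hv
    refine hB v ?_
    have e : b * b = (b * a⁻¹) * (a * b) := by group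
    have h5 : M.φ b (M.φ b v) = v := by rw [← M.φ_mul, e, M.φ_mul, hv, h']
    calc M.φ b v = M.φ b (M.φ b (M.φ b v)) := by rw [h5]
      _ = v := by rw [← M.φ_mul, ← M.φ_mul, hb, map_one]; rfl
  have hAB' : ∀ v, M.φ (b * a⁻¹) v = v → M.φ a v = v := fun v hv => hAB v (hU v hv)
  refine M.eq_one_of_fix fun v => ?_
  -- the projections
  let P : X → V → V := fun o w => w * M.φ o w * M.φ (o * o) w
  have hP : ∀ o, o * o * o = 1 → ∀ w, M.φ o (P o w) = P o w := fun o ho w => by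
    simp only [P]
    rw [map_mul (M.φ o), map_mul (M.φ o), ← M.φ_mul o o, ← M.φ_mul o (o * o),
      show o * (o * o) = o * o * o by group, ho, map_one, MulAut.one_apply, M.comm]
    simp only [mul_assoc]
  have hdec : v = P (a * b) v * P (b * a⁻¹) v * P a v * P b v * P a (P b v) := by
    have haa : a⁻¹ = a * a := inv_eq_of_mul_eq_one_right (by rw [← mul_assoc]; exact ha)
    have hba : b * a = a * b := hc.symm
    have hba' : ∀ x, b * (a * x) = a * (b * x) := fun x => by rw [← mul_assoc, hba, mul_assoc]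
    have ea : ∀ x, a * (a * (a * x)) = x := fun x => by rw [← mul_assoc, ← mul_assoc, ha, one_mul]
    simp only [P]
    have r1 : b * a⁻¹ = a * (a * b) := by rw [haa, hba', hba]
    have r2 : b * a⁻¹ * (b * a⁻¹) = a * (b * b) := by
      rw [r1]; simp only [mul_assoc, hba', hba, ea]
    have r3 : a * b * (a * b) = a * (a * (b * b)) := by simp only [mul_assoc, hba', hba]
    rw [r2, r3, r1]
    simp only [map_mul, MulAut.mul_apply]
    apply M.inj
    simp only [M.add]
    refine Nat.eq_of_testBit_eq fun i => ?_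
    simp only [Nat.testBit_xor]
    generalize (M.c (M.φ a (M.φ a (M.φ b (M.φ b v))))).testBit i = x1
    generalize (M.c (M.φ a (M.φ a (M.φ b v)))).testBit i = x2
    generalize (M.c (M.φ a (M.φ b (M.φ b v)))).testBit i = x3
    generalize (M.c (M.φ a (M.φ b v))).testBit i = x4
    generalize (M.c (M.φ a (M.φ a v))).testBit i = x5
    generalize (M.c (M.φ b (M.φ b v))).testBit i = x6
    generalize (M.c (M.φ a v)).testBit i = x7
    generalize (M.c (M.φ b v)).testBit i = x8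
    generalize (M.c v).testBit i = x9
    revert x1 x2 x3 x4 x5 x6 x7 x8 x9
    decide +kernel
  rw [hdec]
  simp only [map_mul]
  rw [hAB _ (hP _ h3u v), hAB' _ (hP _ h3w v), hP a ha v, hB _ (hP b hb v), hP a ha (P b v)]

end Act

end Cfsg.Agent.Local.M24A
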