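import Cfsg.Agent.Lib.Local.M24Abelian.Semantics
import Cfsg.Agent.Lib.Local.M24Abelian.Data
import Cfsg.Agent.Lib.Local.FS.Group
import Mathlib

/-!
The abelian subgroup of order sixty-four is strongly closed.
-/

set_option autoImplicit false
set_option linter.style.haveILetI false
set_option maxRecDepth 100000

namespace Cfsg.Agent.Local.M24A

open Cfsg Cfsg.FusionSystem Cfsg.Agent.Fusion Cfsg.Agent.Local.FS

universe u

variable {G : Type u} [Group G] {S R : Subgroup G} (C : Coord S)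

/-- The elements with codes below sixty-four. -/
def ASub : Subgroup G where
  carrier := {x | ∃ h : x ∈ S, C.c ⟨x, h⟩ < 64}
  one_mem' := ⟨S.one_mem, by rw [show (⟨1, S.one_mem⟩ : S) = 1 from rfl, C.one]; norm_num⟩
  mul_mem' := by
    rintro x y ⟨hx, hx'⟩ ⟨hy, hy'⟩
    refine ⟨S.mul_mem hx hy, ?_⟩
    rw [show (⟨x * y, S.mul_mem hx hy⟩ : S) = ⟨x, hx⟩ * ⟨y, hy⟩ from rfl, C.mul, mm_left hx' (C.lt _),
      Nat.div_eq_of_lt hy', Nat.mod_eq_of_lt hy', Nat.mul_zero, Nat.add_zero]
    exact xor_lt64 hx' hy'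
  inv_mem' := by
    rintro x ⟨hx, hx'⟩
    refine ⟨S.inv_mem hx, ?_⟩
    have h1 : (⟨x, hx⟩ : S) * ⟨x, hx⟩ = 1 := C.inj (by
      rw [C.mul, C.one, mm_left hx' (C.lt _), Nat.div_eq_of_lt hx', Nat.mod_eq_of_lt hx', Nat.xor_self])
    rw [show (⟨x⁻¹, S.inv_mem hx⟩ : S) = ⟨x, hx⟩⁻¹ from rfl, inv_eq_of_mul_eq_one_right h1]
    exact hx'

theorem ASub_le : ASub C ≤ S := fun _ hx => hx.1

theorem mem_ASub (x : S) : (x : G) ∈ ASub C ↔ C.c x < 64 := ⟨fun ⟨_, h⟩ => h, fun h => ⟨x.2, h⟩⟩

variable {C}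

theorem ASub_sq {x : G} (hx : x ∈ ASub C) : x * x = 1 := by
  obtain ⟨hxS, h⟩ := hx
  exact (sq_iff (C := C) ⟨x, hxS⟩).1 (by
    rw [mm_left h (C.lt _), Nat.div_eq_of_lt h, Nat.mod_eq_of_lt h, Nat.xor_self]; rfl)

theorem ASub_comm {x y : G} (hx : x ∈ ASub C) (hy : y ∈ ASub C) : x * y = y * x := by
  have h1 := inv_eq_of_mul_eq_one_right (ASub_sq ((ASub C).mul_mem hx hy))
  rw [mul_inv_rev, inv_eq_of_mul_eq_one_right (ASub_sq hx), inv_eq_of_mul_eq_one_right (ASub_sq hy)] at h1
  exact h1.symm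

theorem ASub_card : Nat.card (ASub C) = 64 := by
  let f : ASub C → Fin 64 := fun x => ⟨C.c ⟨x, x.2.1⟩, x.2.2⟩
  have hf : Function.Bijective f := by
    refine ⟨fun x y e => Subtype.ext ?_, fun i => ?_⟩
    · have h1 := C.inj (congrArg Fin.val e)
      exact (Subtype.mk.injEq _ _ _ _).mp h1
    · obtain ⟨s, hs⟩ := C.surj i.val (lt_trans i.isLt (by norm_num))
      exact ⟨⟨s, s.2, by show C.c s < 64; rw [hs]; exact i.isLt⟩, Fin.ext hs⟩
  rw [Nat.card_eq_of_bijective f hf, Nat.card_eq_fintype_card, Fintype.card_fin]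

theorem foldl_mm_spec : ∀ (l : List ℕ) (a : ℕ), a < 512 →
    (l.foldl mm a) / 64 = (l.map (· / 64)).foldl pu (a / 64) ∧ l.foldl mm a < 512
  | [], a, ha => ⟨rfl, ha⟩
  | b :: l, a, ha => by
    obtain ⟨h1, -, h3⟩ := mm_div a b
    obtain ⟨h4, h5⟩ := foldl_mm_spec l (mm a b) h3
    exact ⟨by rw [List.foldl_cons, h4, h1]; rfl, h5⟩

theorem cset_foldl : ∀ (l : List ℕ) (a : ℕ), cset C R a → (∀ b ∈ l, cset C R b) → cset C R (l.foldl mm a)
  | [], a, ha, _ => ha
  | b :: l, a, ha, h => cset_foldl l (mm a b) (cset_mm C ha (h b (by simp))) fun c hc => h c (by simp [hc])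

theorem spanL_mem {basis : List ℕ} (h64 : ∀ b ∈ basis, b < 64) (h : ∀ b ∈ basis, cset C R b) :
    ∀ x ∈ spanL basis, cset C R x := by
  induction basis with
  | nil => intro x hx; rw [spanL, List.mem_singleton] at hx; subst hx; exact cset_zero C
  | cons b l ih =>
    have h64' : ∀ c ∈ l, c < 64 := fun c hc => h64 c (by simp [hc])
    intro x hx
    rw [spanL, List.mem_append] at hx
    rcases hx with hx | hx
    · exact ih h64' (fun c hc => h c (by simp [hc])) x hx
    · obtain ⟨i, hi, rfl⟩ := List.mem_map.1 hx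
      exact cset_xor C (h b (by simp)) (ih h64' (fun c hc => h c (by simp [hc])) i hi) (h64 b (by simp))
        (spanL_lt h64' i hi)

theorem spanR_mem {l : List ℕ} (h64 : ∀ b ∈ l, b < 64) (h : ∀ b ∈ l, cset C R b) :
    ∀ x ∈ spanR l, x < 64 ∧ cset C R x := by
  induction l with
  | nil => intro x hx; rw [spanR, List.mem_singleton] at hx; subst hx; exact ⟨by norm_num, cset_zero C⟩
  | cons b l ih =>
    have ih' := ih (fun c hc => h64 c (by simp [hc])) fun c hc => h c (by simp [hc])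
    intro x hx
    rw [spanR] at hx
    split at hx
    · exact ih' x hx
    rcases List.mem_append.1 hx with hx | hx
    · exact ih' x hx
    · obtain ⟨i, hi, rfl⟩ := List.mem_map.1 hx
      obtain ⟨h1, h2⟩ := ih' i hi
      exact ⟨xor_lt64 (h64 b (by simp)) h1, cset_xor C (h b (by simp)) h2 (h64 b (by simp)) h1⟩

theorem tuples_mem {reps : List ℕ} : ∀ (gs : List ℕ) (f : ℕ → ℕ), (∀ g ∈ gs, f g ∈ reps) →
    gs.map (fun g => f g + 64 * g) ∈ tuples gs reps
  | [], f, _ => by simp [tuples]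
  | g :: gs, f, h => by
    rw [tuples, List.mem_flatMap]
    refine ⟨f g, h g (by simp), List.mem_map.2 ⟨_, tuples_mem gs f fun x hx => h x (by simp [hx]), rfl⟩⟩

theorem act_fix_word : ∀ (l : List ℕ) (a δ : ℕ), a < 8 → δ < 64 → act a δ = δ →
    (∀ g ∈ l, g < 8 ∧ act g δ = δ) → act (l.foldl pu a) δ = δ
  | [], _, _, _, _, h, _ => h
  | g :: l, a, δ, ha, hδ, h, hl => by
    obtain ⟨hg, hgf⟩ := hl g (by simp)
    refine act_fix_word l (pu a g) δ (pu_lt a g) hδ ?_ fun x hx => hl x (by simp [hx])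
    have := act_pu ⟨a, ha⟩ ⟨g, hg⟩ ⟨δ, hδ⟩
    simp only at this
    rw [this, hgf, h]

theorem exists_max_sub {α : Type*} (L : List α) (P : α → Prop) (size : α → ℕ) (h : ∃ a ∈ L, P a) :
    ∃ a ∈ L, P a ∧ ∀ b ∈ L, P b → size b ≤ size a := by
  classical
  obtain ⟨a, ha, hP⟩ := h
  obtain ⟨m, hm, hmax⟩ := Finset.exists_max_image ((Finset.univ : Finset (Fin L.length)).filter fun i => P (L.get i))
    (fun i => size (L.get i)) (by
      obtain ⟨i, rfl⟩ := List.get_of_mem ha
      exact ⟨i, Finset.mem_filter.2 ⟨Finset.mem_univ i, hP⟩⟩)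
  refine ⟨L.get m, List.get_mem L m, (Finset.mem_filter.1 hm).2, fun b hb hPb => ?_⟩
  obtain ⟨i, rfl⟩ := List.get_of_mem hb
  exact hmax i (Finset.mem_filter.2 ⟨Finset.mem_univ i, hPb⟩)

/-- the set of a mask below sixty-four -/
def maskSet (m : ℕ) : Finset ℕ := (Finset.range 64).filter fun i => m.testBit i = true

theorem mem_maskSet {l : List ℕ} {i : ℕ} (h : ∀ b ∈ l, b < 64) : i ∈ maskSet (maskOf l) ↔ i ∈ l := by
  rw [maskSet, Finset.mem_filter, Finset.mem_range, testBit_maskOf]
  exact ⟨fun hh => hh.2, fun hh => ⟨h i hh, hh⟩⟩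

variable [Finite G] [Finite S] {F : FusionSystem S}

/-- An essential subgroup contains the abelian subgroup of order sixty-four. -/
theorem le_of_essential (hS : IsPGroup 2 S) (hF : F.IsSaturated 2) (hE : F.IsEssential 2 R) : ASub C ≤ R := by
  classical
  haveI : Fact (Nat.Prime 2) := ⟨Nat.prime_two⟩
  by_contra hnot
  have hRS : R ≤ S := hE.1.1
  have hcent : ∀ s : S, (∀ y ∈ R, (s : G) * y = y * s) → (s : G) ∈ R := fun s h =>
    hE.1.2 R (isConj_refl hRS) (mem_centralizerIn.2 ⟨s.2, fun x hx => (h x hx).symm⟩)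
  have hIfull : ¬ ∀ x < 64, cset C R x := fun h => hnot fun x ⟨hxS, hx⟩ => by
    obtain ⟨y, hy, hye⟩ := h _ hx
    obtain rfl : y = ⟨x, hxS⟩ := C.inj hye
    exact hy
  -- the image in the unitriangular group
  let Wp : ℕ → Prop := fun w => ∃ g, cset C R g ∧ g / 64 = w
  set Wl := (List.range 8).filter fun w => decide (Wp w) with hWl
  have hWmem : ∀ w, w ∈ Wl ↔ Wp w := by
    intro w
    rw [hWl, List.mem_filter, List.mem_range, decide_eq_true_iff]
    refine ⟨fun h => h.2, fun h => ⟨?_, h⟩⟩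
    obtain ⟨g, hg, rfl⟩ := h
    have := cset_lt C hg
    omega
  have hm256 : maskOf Wl < 256 := maskOf_lt (n := 8) fun w hw => List.mem_range.1 (List.mem_filter.1 hw).1
  have hW0 : Wp 0 := ⟨0, cset_zero C, rfl⟩
  have hW1 : maskOf Wl ≠ 1 := by
    intro h
    refine hnot fun x hxA => ?_
    obtain ⟨hxS, hx⟩ := hxA
    refine hcent ⟨x, hxS⟩ fun y hy => ASub_comm ⟨hxS, hx⟩ ⟨hRS hy, ?_⟩
    by_contra hlt
    have h2 : (maskOf Wl).testBit (C.c ⟨y, hRS hy⟩ / 64) = true :=
      testBit_maskOf.2 ((hWmem _).2 ⟨_, ⟨_, hy, rfl⟩, rfl⟩)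
    rw [h] at h2
    have h3 := Nat.testBit_one_eq_true_iff_self_eq_zero.1 h2
    omega
  have hcomp := subgroups_complete ⟨maskOf Wl, hm256⟩ (testBit_maskOf.2 ((hWmem 0).2 hW0)) hW1 fun u w hu hw => by
    rw [testBit_maskOf, hWmem] at hu hw
    obtain ⟨g, hg, hgu⟩ := hu
    obtain ⟨g', hg', hgw⟩ := hw
    exact testBit_maskOf.2 ((hWmem _).2 ⟨mm g g', cset_mm C hg hg', by rw [(mm_div g g').1, hgu, hgw]⟩)
  rw [List.any_eq_true] at hcomp
  obtain ⟨d, hd, hdm⟩ := hcomp
  rw [beq_iff_eq] at hdm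
  have hels : ∀ w, w ∈ d.els ↔ Wp w := fun w => by
    rw [← hWmem w, ← testBit_maskOf, hdm, testBit_maskOf]
  have hok : (d.groupB && d.closedB && d.subs.all fun s => planOk d s.1 s.2) = true := by
    simp only [wdataAll, List.mem_cons, List.not_mem_nil, or_false] at hd
    rcases hd with rfl | rfl | rfl | rfl | rfl | rfl | rfl | rfl | rfl
    · exact wdata0_ok
    · exact wdata1_ok
    · exact wdata2_ok
    · exact wdata3_ok
    · exact wdata4_ok
    · exact wdata5_ok
    · exact wdata6_ok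
    · exact wdata7_ok
    · exact wdata8_ok
  simp only [Bool.and_eq_true, List.all_eq_true] at hok
  obtain ⟨⟨hgrp, hclosed⟩, hplans⟩ := hok
  simp only [WData.groupB, Bool.and_eq_true, List.all_eq_true, decide_eq_true_iff, List.contains_iff_mem,
    beq_iff_eq] at hgrp
  obtain ⟨hgens, hwords⟩ := hgrp
  have hword : ∀ w ∈ d.els, ∃ l : List ℕ, (∀ g ∈ l, g ∈ d.gens) ∧ l.foldl pu 0 = w := by
    intro w hw
    obtain ⟨p, hp, rfl⟩ := List.mem_map.1 hw
    obtain ⟨⟨-, hk⟩, he⟩ := hwords p hp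
    refine ⟨_, fun g hg => ?_, he⟩
    obtain ⟨k, hk', rfl⟩ := List.mem_map.1 hg
    rw [List.getD_eq_getElem _ _ (hk k hk')]
    exact List.getElem_mem _
  have hact0 : ∀ x < 64, act 0 x = x := fun x hx => small_facts.1 ⟨x, hx⟩
  have hfixW : ∀ x < 64, fixB d.gens x = true → ∀ w ∈ d.els, act w x = x := by
    intro x hx hfx w hw
    obtain ⟨l, hl, rfl⟩ := hword w hw
    refine act_fix_word l 0 x (by norm_num) hx (hact0 x hx) fun g hg => ⟨(hgens g (hl g hg)).1, ?_⟩
    exact beq_iff_eq.1 (List.all_eq_true.1 hfx g (hl g hg))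
  have hcentral : ∀ s : S, C.c s < 64 → fixB d.gens (C.c s) = true → ∀ y ∈ R, (s : G) * y = y * s := by
    intro s hs hfx y hy
    set ys : S := ⟨y, hRS hy⟩
    have h1 : com (C.c s) (C.c ys) = true := by
      rw [com, beq_iff_eq, mm_left hs (C.lt ys), mm_right hs (C.lt ys),
        hfixW _ hs hfx _ ((hels _).2 ⟨_, ⟨ys, hy, rfl⟩, rfl⟩), Nat.xor_comm]
    exact (com_iff s ys).1 h1
  -- the intersection with the abelian subgroup
  simp only [WData.closedB, Bool.and_eq_true, List.all_eq_true, Bool.or_eq_true, decide_eq_true_iff,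
    List.contains_iff_mem, beq_iff_eq] at hclosed
  obtain ⟨hstart, hgrow⟩ := hclosed
  obtain ⟨s, hs, hsI, hmax⟩ := exists_max_sub d.subs
    (fun s => ∀ x ∈ spanL s.1, cset C R x) (fun s => (maskSet (maskOf (spanL s.1))).card) (by
      obtain ⟨s, hs, hse⟩ := List.mem_map.1 hstart
      refine ⟨s, hs, fun x hx => ?_⟩
      have h1 : x ∈ (List.range 64).filter (fixB d.gens) := testBit_maskOf.1 (hse ▸ testBit_maskOf.2 hx)
      rw [List.mem_filter, List.mem_range] at h1
      obtain ⟨t, rfl⟩ := C.surj x (by omega)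
      exact ⟨t, hcent t (hcentral t h1.1 h1.2), rfl⟩)
  obtain ⟨hs64, hgrow'⟩ := hgrow s hs
  have hspan64 : ∀ x ∈ spanL s.1, x < 64 := spanL_lt hs64
  have hI : ∀ x < 64, cset C R x → x ∈ spanL s.1 := by
    intro x hx hxI
    by_contra hxJ
    rcases hgrow' x (List.mem_range.2 hx) with h | ⟨⟨hmem, hor⟩, hbit⟩
    · exact hxJ (testBit_maskOf.1 h)
    have hgm : ∀ b ∈ growMask d.els s.1 x, b < 64 ∧ cset C R b := by
      intro b hb
      rw [growMask, List.mem_append] at hb
      rcases hb with hb | hb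
      · obtain ⟨w, hw, rfl⟩ := List.mem_map.1 hb
        obtain ⟨g, hg, rfl⟩ := (hels w).1 hw
        exact ⟨act_lt _ _, cset_act C hg hxI hx⟩
      · exact ⟨hs64 b hb, hsI b (mem_spanL_of_mem b hb)⟩
    have hR := spanR_mem (fun b hb => (hgm b hb).1) fun b hb => (hgm b hb).2
    rcases hmem with hmem | hfull
    · obtain ⟨s', hs', hse⟩ := List.mem_map.1 hmem
      have h1 := hmax s' hs' fun y hy => (hR y (testBit_maskOf.1 (hse ▸ testBit_maskOf.2 hy))).2
      have h2 : maskSet (maskOf (spanL s.1)) ⊂ maskSet (maskOf (spanL s'.1)) := by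
        refine (Finset.ssubset_iff_of_subset fun i hi => ?_).2 ⟨x, ?_, fun hh => hxJ ((mem_maskSet hspan64).1 hh)⟩
        · rw [maskSet, Finset.mem_filter] at hi ⊢
          refine ⟨hi.1, ?_⟩
          rw [hse, ← hor, Nat.testBit_or, hi.2, Bool.or_true]
        · rw [maskSet, Finset.mem_filter, Finset.mem_range, hse]
          exact ⟨hx, hbit⟩
      exact absurd (Finset.card_lt_card h2) (not_lt.2 h1)
    · refine hIfull fun y hy => (hR y (testBit_maskOf.1 ?_)).2
      rw [hfull, Nat.testBit_two_pow_sub_one, decide_eq_true_iff]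
      exact hy
  have hplan := hplans s hs
  obtain ⟨basis, plan⟩ := s
  simp only at hs64 hsI hspan64 hI hplan
  cases plan with
  | dismiss a =>
    simp only [planOk, Bool.and_eq_true, List.all_eq_true, decide_eq_true_iff] at hplan
    obtain ⟨⟨⟨hZ, ha64⟩, hanot⟩, hmove⟩ := hplan
    obtain ⟨as, has⟩ := C.surj a (by omega)
    have hzA : ∀ z : S, (z : G) ∈ R → (∀ y ∈ R, (z : G) * y = y * z) → C.c z < 64 := by
      intro z hz hzc
      by_contra hlt
      set w := C.c z / 64 with hw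
      have hwel : w ∈ d.els := (hels _).2 ⟨_, ⟨z, hz, rfl⟩, rfl⟩
      have h1 := hZ w hwel
      rw [Bool.or_eq_true, Bool.or_eq_true] at h1
      have hw8 : w < 8 := by have := C.lt z; omega
      rcases h1 with (h1 | h1) | h1
      · rw [beq_iff_eq] at h1
        omega
      · rw [Bool.not_eq_true', ← Bool.not_eq_true, List.all_eq_true] at h1
        refine h1 fun v hv => beq_iff_eq.2 ?_
        obtain ⟨g, hg, rfl⟩ := (hels v).1 hv
        obtain ⟨y, hy, rfl⟩ := hg
        have h2 : z * y = y * z := Subtype.ext (hzc y hy)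
        have h3 := congrArg (fun t => C.c t / 64) h2
        simp only [C.mul, (mm_div _ _).1] at h3
        exact h3
      · obtain ⟨x, hx, hxne⟩ := List.any_eq_true.1 h1
        obtain ⟨xs, hxs, hxe⟩ := hsI x hx
        have hx64 := hspan64 x hx
        have h2 := (com_iff (C := C) z xs).2 (hzc xs hxs)
        rw [hxe, com, beq_iff_eq, mm_left hx64 (C.lt z), mm_right hx64 (C.lt z), Nat.xor_comm (C.c z % 64)] at h2
        have h3 : act w x = x := by
          have h4 : act w x ^^^ C.c z % 64 = x ^^^ C.c z % 64 := by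
            rw [hw]; omega
          exact Nat.xor_left_inj.1 h4
        rw [h3] at hxne
        simp at hxne
    have hδ : ∀ w ∈ d.els, fixB d.gens (act w a ^^^ a) = true := by
      intro w hw
      obtain ⟨l, hl, rfl⟩ := hword w hw
      have key : ∀ (l : List ℕ) (u : ℕ), u < 8 → fixB d.gens (act u a ^^^ a) = true → (∀ g ∈ l, g ∈ d.gens) →
          (∀ δ < 64, fixB d.gens δ = true → act u δ = δ) →
          fixB d.gens (act (l.foldl pu u) a ^^^ a) = true := by
        intro l
        induction l with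
        | nil => exact fun u _ h _ _ => h
        | cons g l ih =>
          intro u hu hfx hgl hufix
          have hg := hgl g (by simp)
          have hg8 := (hgens g hg).1
          refine ih (pu u g) (pu_lt _ _) ?_ (fun x hx => hgl x (by simp [hx])) fun δ hδ hδf => ?_
          · have e1 := act_pu ⟨u, hu⟩ ⟨g, hg8⟩ ⟨a, ha64⟩
            have e2 := act_add ⟨u, hu⟩ ⟨act g a ^^^ a, xor_lt64 (act_lt _ _) ha64⟩ ⟨a, ha64⟩
            simp only at e1 e2
            rw [Nat.xor_assoc (act g a), Nat.xor_self, Nat.xor_zero,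
              hufix _ (xor_lt64 (act_lt _ _) ha64) (hmove g hg)] at e2
            refine List.all_eq_true.2 fun k hk => ?_
            have e3 := act_add ⟨k, (hgens k hk).1⟩ ⟨act g a ^^^ a, xor_lt64 (act_lt _ _) ha64⟩
              ⟨act u a ^^^ a, xor_lt64 (act_lt _ _) ha64⟩
            simp only at e3
            rw [beq_iff_eq.1 (List.all_eq_true.1 (hmove g hg) k hk), beq_iff_eq.1 (List.all_eq_true.1 hfx k hk)] at e3
            have e4 : (act g a ^^^ a) ^^^ (act u a ^^^ a) = act (pu u g) a ^^^ a := by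
              rw [e1, e2, Nat.xor_assoc (act g a ^^^ a)]
            rw [beq_iff_eq, ← e4, e3]
          · have e1 := act_pu ⟨u, hu⟩ ⟨g, hg8⟩ ⟨δ, hδ⟩
            simp only at e1
            rw [e1, beq_iff_eq.1 (List.all_eq_true.1 hδf g hg), hufix δ hδ hδf]
      refine key l 0 (by norm_num) ?_ hl fun δ hδ _ => hact0 δ hδ
      rw [hact0 a ha64, Nat.xor_self]
      exact List.all_eq_true.2 fun g hg => beq_iff_eq.2 (small_facts.2.1 ⟨g, (hgens g hg).1⟩)
    have haR : (as : G) ∉ R := fun h => not_testBit hanot (hI a ha64 ⟨as, h, has⟩)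
    have hasA : (as : G) ∈ ASub C := (mem_ASub C as).2 (has.symm ▸ ha64)
    have hstep : ∀ y ∈ R, ∃ δ : S, (δ : G) ∈ CenInvol R ∧ y⁻¹ * ((as : G) * y * (as : G)⁻¹) = δ := by
      intro y hy
      set ys : S := ⟨y, hRS hy⟩
      set w := C.c ys / 64 with hw
      have hfx := hδ w ((hels _).2 ⟨_, ⟨ys, hy, rfl⟩, rfl⟩)
      have hlt : act w a ^^^ a < 64 := xor_lt64 (act_lt _ _) ha64
      obtain ⟨δ, hδe⟩ := C.surj (act w a ^^^ a) (by omega)
      have hc := hcentral δ (by rw [hδe]; exact hlt) (by rw [hδe]; exact hfx)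
      have hδR := hcent δ hc
      refine ⟨δ, ⟨hδR, ASub_sq ((mem_ASub C δ).2 (by rw [hδe]; exact hlt)), hc⟩, ?_⟩
      have h1 : as * ys = δ * ys * as := C.inj (by
        rw [C.mul, C.mul, C.mul, has, hδe, mm_left ha64 (C.lt ys), mm_left hlt (C.lt ys)]
        have h3 : (act w a ^^^ a ^^^ C.c ys % 64) + 64 * w < 512 := by
          have := xor_lt64 hlt (Nat.mod_lt (C.c ys) (show 0 < 64 by norm_num))
          have := C.lt ys
          omega
        have hmod : ((act w a ^^^ a ^^^ C.c ys % 64) + 64 * w) % 64 = act w a ^^^ a ^^^ C.c ys % 64 := by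
          have := xor_lt64 hlt (Nat.mod_lt (C.c ys) (show 0 < 64 by norm_num))
          omega
        have hdiv : ((act w a ^^^ a ^^^ C.c ys % 64) + 64 * w) / 64 = w := by
          have := xor_lt64 hlt (Nat.mod_lt (C.c ys) (show 0 < 64 by norm_num))
          omega
        rw [← hw, mm_right ha64 h3, hmod, hdiv]
        congr 1
        rw [Nat.xor_comm (act w a) a, Nat.xor_assoc a, Nat.xor_comm (act w a), ← Nat.xor_assoc a, Nat.xor_assoc _ (act w a),
          Nat.xor_self, Nat.xor_zero])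
      have h2 : (as : G) * y * (as : G)⁻¹ = (δ : G) * y := by
        have := congrArg Subtype.val h1
        simp only [Subgroup.coe_mul] at this
        rw [show ((ys : S) : G) = y from rfl] at this
        rw [this, mul_inv_cancel_right]
      rw [h2, hc y hy, ← mul_assoc, inv_mul_cancel, one_mul]
    have han : (as : G) ∈ Subgroup.normalizer (R : Set G) := mem_normalizer_of_cj_le (by
      rintro _ ⟨y, hy, rfl⟩
      obtain ⟨δ, hδ, e⟩ := hstep y hy
      show (as : G) * y * (as : G)⁻¹ ∈ R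
      rw [show (as : G) * y * (as : G)⁻¹ = y * (y⁻¹ * ((as : G) * y * (as : G)⁻¹)) by group, e]
      exact R.mul_mem hy hδ.1)
    refine haR (mem_of_cenInvol hS hF hE (gs := (R : Set G)) (Subgroup.closure_eq R).symm as.2 han ?_ fun y hy => ?_)
    · rintro x ⟨hx, -, hxc⟩
      rw [ASub_comm hasA ⟨hRS hx, hzA ⟨x, hRS hx⟩ hx hxc⟩, mul_inv_cancel_right]
    · obtain ⟨δ, hδ, e⟩ := hstep y hy
      rw [e]; exact hδ
  | cases reps certs =>
    simp only [planOk, Bool.and_eq_true, List.all_eq_true, beq_iff_eq, List.any_eq_true, decide_eq_true_iff] at hplan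
    obtain ⟨⟨hreps, hlen⟩, hcerts⟩ := hplan
    have hlift : ∀ g ∈ d.gens, ∃ r, r ∈ reps ∧ r < 64 ∧ cset C R (r + 64 * g) := by
      intro g hg
      obtain ⟨c, hc, hcg⟩ := (hels g).1 (hgens g hg).2
      obtain ⟨r, hr, hr64, hbit⟩ := hreps (c % 64) (List.mem_range.2 (Nat.mod_lt _ (by norm_num)))
      refine ⟨r, hr, hr64, ?_⟩
      have h1 := hsI _ (testBit_maskOf.1 hbit)
      have h2 := cset_mm C h1 hc
      rwa [mm_left (xor_lt64 (Nat.mod_lt _ (by norm_num)) hr64) (cset_lt C hc), Nat.xor_comm (c % 64) r, Nat.xor_assoc,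
        Nat.xor_self, Nat.xor_zero, hcg] at h2
    choose! f hf hf64 hfc using hlift
    set lifts := d.gens.map fun g => f g + 64 * g with hlifts
    have htup : lifts ∈ tuples d.gens reps := tuples_mem d.gens f hf
    obtain ⟨i, hi, hie⟩ := List.getElem_of_mem htup
    have hok := hcerts (lifts, certs[i]'(by omega)) (List.mem_iff_getElem.2
      ⟨i, by rw [List.length_zip]; omega, by rw [List.getElem_zip, hie]⟩)
    simp only at hok
    have hwc : ∀ p ∈ d.words, cset C R (wordCode lifts p.2) ∧ wordCode lifts p.2 / 64 = p.1 := by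
      intro p hp
      obtain ⟨⟨-, hk⟩, he⟩ := hwords p hp
      have hgetd : ∀ k ∈ p.2, lifts.getD k 0 = f (d.gens.getD k 0) + 64 * d.gens.getD k 0 ∧ d.gens.getD k 0 ∈ d.gens := by
        intro k hk'
        have hlt := hk k hk'
        rw [List.getD_eq_getElem _ _ (by rw [hlifts, List.length_map]; exact hlt), List.getD_eq_getElem _ _ hlt]
        exact ⟨by simp [hlifts], List.getElem_mem _⟩
      constructor
      · refine cset_foldl _ _ (cset_zero C) fun b hb => ?_
        obtain ⟨k, hk', rfl⟩ := List.mem_map.1 hb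
        obtain ⟨h1, h2⟩ := hgetd k hk'
        rw [h1]; exact hfc _ h2
      · rw [wordCode, (foldl_mm_spec _ 0 (by norm_num)).1, List.map_map]
        rw [show p.2.map ((fun x => x / 64) ∘ fun k => lifts.getD k 0) = p.2.map fun k => d.gens.getD k 0 from ?_]
        · exact he
        refine List.map_congr_left fun k hk' => ?_
        obtain ⟨h1, h2⟩ := hgetd k hk'
        have := hf64 _ h2
        simp only [Function.comp, h1]
        omega
    have hel : ∀ g, g ∈ elOf basis lifts d.words ↔ cset C R g := by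
      intro g
      rw [elOf, List.mem_flatMap]
      simp only [List.mem_map]
      constructor
      · rintro ⟨p, hp, j, hj, rfl⟩
        obtain ⟨h1, h2⟩ := hwc p hp
        have := cset_mm C (hsI j hj) h1
        rwa [mm_left (hspan64 j hj) (cset_lt C h1), h2] at this
      · intro hg
        have hw : g / 64 ∈ d.els := (hels _).2 ⟨g, hg, rfl⟩
        obtain ⟨p, hp, hpe⟩ := List.mem_map.1 hw
        obtain ⟨h1, h2⟩ := hwc p hp
        obtain ⟨x, hx, hxe⟩ := hg
        obtain ⟨y, hy, hye⟩ := h1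
        set t := x * y⁻¹ with ht
        have ht' : (t : G) ∈ R := by rw [ht]; exact R.mul_mem hx (R.inv_mem hy)
        have hmul : mm (C.c t) (C.c y) = g := by rw [← C.mul, ht, inv_mul_cancel_right, hxe]
        have ht64 : C.c t < 64 := by
          have h3 := (mm_div (C.c t) (C.c y)).1
          rw [hmul, hye, h2, hpe] at h3
          have hu : C.c t / 64 < 8 := by have := C.lt t; omega
          have hg8 : g / 64 < 8 := by have := C.lt x; omega
          have hcancel : ∀ u v : Fin 8, v.val = pu u.val v.val → u.val = 0 := by decide +kernel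
          have := hcancel ⟨_, hu⟩ ⟨_, hg8⟩ h3
          simp only at this
          omega
        refine ⟨p, hp, C.c t, hI _ ht64 ⟨t, ht', rfl⟩, ?_⟩
        rw [← hmul, mm_left ht64 (C.lt y), hye, h2]
    have hgc : ∀ g ∈ basis ++ lifts, cset C R g := by
      intro g hg
      rcases List.mem_append.1 hg with hg | hg
      · exact hsI g (mem_spanL_of_mem g hg)
      · obtain ⟨k, hk, rfl⟩ := List.mem_map.1 hg
        exact hfc k hk
    set K := Subgroup.closure {x : G | x ∈ R ∧ ∃ h : x ∈ S, C.c ⟨x, h⟩ ∈ basis ++ lifts} with hK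
    have htop : R = K := by
      refine le_antisymm (fun x hx => ?_) ((Subgroup.closure_le _).2 fun x hx => hx.1)
      have hgen : ∀ g ∈ basis ++ lifts, cset C K g := by
        intro g hg
        obtain ⟨y, hy, rfl⟩ := hgc g hg
        exact ⟨y, Subgroup.subset_closure ⟨hy, y.2, hg⟩, rfl⟩
      have hall : cset C K (C.c ⟨x, hRS hx⟩) := by
        have h1 := (hel (C.c ⟨x, hRS hx⟩)).2 ⟨⟨x, hRS hx⟩, hx, rfl⟩
        rw [elOf, List.mem_flatMap] at h1
        obtain ⟨p, hp, h1⟩ := h1
        obtain ⟨j, hj, hje⟩ := List.mem_map.1 h1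
        obtain ⟨-, h2⟩ := hwc p hp
        have hpk : cset C K (wordCode lifts p.2) := by
          refine cset_foldl _ _ (cset_zero C) fun b hb => ?_
          obtain ⟨k, hk', rfl⟩ := List.mem_map.1 hb
          obtain ⟨⟨-, hk⟩, -⟩ := hwords p hp
          refine hgen _ (List.mem_append_right _ ?_)
          rw [List.getD_eq_getElem _ _ (by rw [hlifts, List.length_map]; exact hk k hk')]
          exact List.getElem_mem _
        have := cset_mm C (spanL_mem hs64 (fun b hb => hgen b (List.mem_append_left _ hb)) j hj) hpk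
        rwa [mm_left (hspan64 j hj) (cset_lt C hpk), h2, hje] at this
      obtain ⟨y, hy, hye⟩ := hall
      obtain rfl : y = ⟨x, hRS hx⟩ := C.inj hye
      exact hy
    exact Data.false_of_ok hS hF hE (⟨hRS, hel, hgc, htop⟩ : Data C R _ _) hok

/-- The abelian subgroup is strongly closed in the fusion of a finite group. -/
theorem ASub_stronglyClosed (T : Sylow 2 G) (hTS : (T : Subgroup G) = S)
    (huniq : ∀ B : Subgroup G, B ≤ S → IsMulCommutative B → Nat.card B = 64 → B = ASub C) :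
    Cfsg.IsStronglyClosed (ASub C) (T : Subgroup G) := by
  haveI : Fact (Nat.Prime 2) := ⟨Nat.prime_two⟩
  have hS : IsPGroup 2 S := hTS ▸ T.isPGroup'
  have hF : (groupFusionSystem S).IsSaturated 2 := group_saturated (hTS ▸ sylIn_top T)
  have hK : IsClosedClass (groupFusionSystem S) (fun P f => ∀ x ∈ P, (x ∈ ASub C ↔ f x ∈ ASub C)) := by
    refine ⟨fun h he x hx => (he x hx) ▸ h x hx, fun _ h hR x hx => h x (hR hx), ?_, ?_⟩
    · intro P Q f g _ _ hf hg hm x hx
      exact (hf x hx).trans (hg _ (hm x hx))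
    · intro P f g hf h hg y hy
      obtain ⟨x, hx, rfl⟩ := hf.mem_im.1 hy
      rw [hg x hx]
      exact (h x hx).symm
  have hgen : ∀ P : Subgroup G, (P = S ∨ (groupFusionSystem S).IsEssential 2 P) →
      ∀ α ∈ (groupFusionSystem S).autGroup P, ∀ x ∈ P, (x ∈ ASub C ↔ av α x ∈ ASub C) := by
    intro P hP α _ x hx
    have hAP : ASub C ≤ P := hP.elim (fun h => h ▸ ASub_le C) (le_of_essential hS hF)
    have hPS : P ≤ S := hP.elim (fun h => h.le) fun h => h.1.1
    have hstab : ∀ β : MulAut P, ∀ x ∈ ASub C, av β x ∈ ASub C := by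
      intro β x hx
      set B := ((ASub C).subgroupOf P).map (P.subtype.comp β.toMonoidHom)
      have hB : B = ASub C := by
        refine huniq B (fun y hy => ?_) ⟨⟨fun y z => Subtype.ext ?_⟩⟩ ?_
        · obtain ⟨u, -, rfl⟩ := hy
          exact hPS (β u).2
        · obtain ⟨_, u, hu, rfl⟩ := y
          obtain ⟨_, v, hv, rfl⟩ := z
          show ((β u : P) : G) * (β v : P) = (β v : P) * (β u : P)
          rw [← Subgroup.coe_mul, ← Subgroup.coe_mul, ← map_mul, ← map_mul,
            show u * v = v * u from Subtype.ext (ASub_comm hu hv)]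
        · rw [Subgroup.card_map_of_injective (f := P.subtype.comp β.toMonoidHom) (fun a b h => β.injective (Subtype.ext h)),
            Nat.card_congr (Subgroup.subgroupOfEquivOfLe hAP).toEquiv, ASub_card]
      rw [← hB, av_apply β (hAP hx)]
      exact ⟨⟨x, hAP hx⟩, hx, rfl⟩
    refine ⟨hstab α x, fun h => ?_⟩
    have := hstab α⁻¹ _ h
    rwa [av_inv_av α hx] at this
  refine ⟨hTS ▸ ASub_le C, fun x hx g hg => ?_⟩
  rw [hTS] at hg
  have hxS : x ∈ S := ASub_le C hx
  have hmap : Map (groupFusionSystem S) (Subgroup.zpowers x) (fun y => g * y * g⁻¹) :=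
    map_group_iff.2 ⟨Subgroup.zpowers_le.2 hxS, fun y hy => by
      obtain ⟨j, rfl⟩ := hy
      simp only
      rw [← conj_zpow]
      exact S.zpow_mem hg j, g, fun _ _ => rfl⟩
  exact (Cfsg.Agent.Local.FS.alperin hS hF hK hgen _ _ hmap x (Subgroup.mem_zpowers x)).1 hx

end Cfsg.Agent.Local.M24A
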