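import Cfsg.Agent.Lib.Local.M24Abelian.Fixed
import Cfsg.Agent.Lib.Local.FS.SimplePSL3
import Mathlib

/-!
The possible groups of automorphisms of the abelian group of order sixty-four.
-/

set_option autoImplicit false
set_option linter.style.haveILetI false
set_option maxRecDepth 100000

namespace Cfsg.Agent.Local.M24A

open Cfsg DihedralGroup

universe u v

/-! ### Concrete elements -/

/-- the degree five pair -/
def five : Equiv.Perm (Fin 5) × Equiv.Perm (Fin 5) :=
  (Equiv.swap 0 1 * Equiv.swap 1 2, Equiv.swap 3 4)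

theorem five_facts : five.1 * five.1 * five.1 = 1 ∧ five.1 ≠ 1 ∧ five.2 * five.2 = 1 ∧ five.2 ≠ 1 ∧
    five.1 * five.2 = five.2 * five.1 := by decide +kernel

theorem six_exists : ∃ g a b : alternatingGroup (Fin 6), g ^ 4 = 1 ∧ g * g ≠ 1 ∧ a * a * a = 1 ∧ b * b * b = 1 ∧
    a * b = b * a ∧ g * a * g⁻¹ = b ∧ g * b * g⁻¹ = a⁻¹ ∧ a ≠ 1 := by
  refine ⟨⟨Equiv.swap 0 3 * (Equiv.swap 1 4 * Equiv.swap 4 2 * Equiv.swap 2 5), Equiv.Perm.mem_alternatingGroup.2 (by decide +kernel)⟩,
    ⟨Equiv.swap 0 1 * Equiv.swap 1 2, Equiv.Perm.mem_alternatingGroup.2 (by decide +kernel)⟩, ⟨Equiv.swap 3 4 * Equiv.swap 4 5, Equiv.Perm.mem_alternatingGroup.2 (by decide +kernel)⟩, ?_⟩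
  decide +kernel

theorem four_group : ∃ h a b : Equiv.Perm (Fin 4), h * h * h = 1 ∧ h ≠ 1 ∧ a * a = 1 ∧ b * b = 1 ∧ a ≠ 1 ∧ b ≠ 1 ∧
    a ≠ b ∧ a * b = b * a ∧ h * a * h⁻¹ = b ∧ h * b * h⁻¹ = a * b := by
  refine ⟨Equiv.swap 1 2 * Equiv.swap 2 3, Equiv.swap 0 1 * Equiv.swap 2 3, Equiv.swap 0 2 * Equiv.swap 1 3, ?_⟩
  decide +kernel

/-- `SL(3,2)` -/
abbrev L32 := Matrix.SpecialLinearGroup (Fin 3) (ZMod 2)

/-- an element of order seven -/
def sevenEl : L32 := ⟨!![0, 0, 1; 1, 0, 1; 0, 1, 0], by decide +kernel⟩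
/-- a transvection -/
def traA : L32 := ⟨!![1, 1, 0; 0, 1, 0; 0, 0, 1], by decide +kernel⟩
/-- a transvection -/
def traB : L32 := ⟨!![1, 0, 0; 0, 1, 1; 0, 0, 1], by decide +kernel⟩
/-- the central transvection -/
def traZ : L32 := ⟨!![1, 0, 1; 0, 1, 0; 0, 0, 1], by decide +kernel⟩
/-- an element of order three -/
def triA : L32 := ⟨!![1, 0, 0; 0, 1, 1; 0, 1, 0], by decide +kernel⟩
/-- an element of order three -/
def triB : L32 := ⟨!![1, 1, 0; 1, 0, 0; 0, 0, 1], by decide +kernel⟩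

theorem sl_words : traZ = [sevenEl, sevenEl, sevenEl, traA, sevenEl, sevenEl, sevenEl, traA, sevenEl, sevenEl].prod ∧
    traB = [sevenEl, sevenEl, traA, sevenEl, traA, sevenEl, traA].prod ∧
    triA = [sevenEl, traA, sevenEl, traA, sevenEl, sevenEl, sevenEl, sevenEl, traA].prod ∧
    triB = [traA, sevenEl, sevenEl, sevenEl, traA, sevenEl, sevenEl, sevenEl, sevenEl].prod := by decide +kernel

theorem sl_facts : sevenEl ^ 7 = 1 ∧ sevenEl ≠ 1 ∧ triA * triA * triA = 1 ∧ triA ≠ 1 ∧
    traA * traA = 1 ∧ traB * traB = 1 ∧ traZ * traZ = 1 ∧ traA ≠ 1 ∧ traB ≠ 1 ∧ traZ ≠ 1 ∧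
    traA ≠ traZ ∧ traB ≠ traZ ∧ traA * traZ = traZ * traA ∧ traB * traZ = traZ * traB ∧ traA * traB ≠ traB * traA := by
  decide +kernel

theorem sl_tri : triA * traA * triA⁻¹ = traZ ∧ triA * traZ * triA⁻¹ = traA * traZ ∧
    triB * traB * triB⁻¹ = traZ ∧ triB * traZ * triB⁻¹ = traB * traZ := by
  have e1 : triA * traA = traZ * triA ∧ triA * traZ = traA * traZ * triA ∧
      triB * traB = traZ * triB ∧ triB * traZ = traB * traZ * triB := by decide +kernel
  obtain ⟨a, b, c, d⟩ := e1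
  exact ⟨by rw [a, mul_inv_cancel_right], by rw [b, mul_inv_cancel_right], by rw [c, mul_inv_cancel_right],
    by rw [d, mul_inv_cancel_right]⟩

theorem sl_card : Nat.card L32 = 168 := by
  haveI : Fact (Nat.Prime 2) := ⟨Nat.prime_two⟩
  have := Local.FS.PSL3Simple.card_SL3 (F := ZMod 2)
  rw [ZMod.card] at this
  norm_num at this
  rw [Nat.card_eq_fintype_card]
  exact this

namespace Act

variable {X : Type u} [Group X] {V : Type v} [Group V] (M : Act X V)

/-- the stabiliser of `v` -/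
def stab (v : V) : Subgroup X where
  carrier := {x | M.φ x v = v}
  one_mem' := by show M.φ 1 v = v; rw [map_one]; rfl
  mul_mem' := fun {x y} (hx : M.φ x v = v) (hy : M.φ y v = v) => show M.φ (x * y) v = v by rw [M.φ_mul, hy, hx]
  inv_mem' := fun {x} (hx : M.φ x v = v) => show M.φ x⁻¹ v = v by
    have := M.φ_inv_self x v
    rwa [hx] at this

theorem fix_mono {g h : X} (hg : g ∈ Subgroup.zpowers h) {v : V} (hv : M.φ h v = v) : M.φ g v = v :=
  (Subgroup.zpowers_le.2 (show h ∈ M.stab v from hv)) hg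

variable [Finite X]

include M in
theorem card_fix_prime {p : ℕ} [Fact p.Prime] (hp : (Nat.card X).factorization p = 1) {g g₀ : X}
    (hg : orderOf g = p) (hg₀ : orderOf g₀ = p) :
    Nat.card {v : V // M.φ g v = v} = Nat.card {v : V // M.φ g₀ v = v} := by
  let P : Sylow p X := Sylow.ofCard (Subgroup.zpowers g) (by rw [Nat.card_zpowers, hg, hp, pow_one])
  let Q : Sylow p X := Sylow.ofCard (Subgroup.zpowers g₀) (by rw [Nat.card_zpowers, hg₀, hp, pow_one])
  obtain ⟨k, hk⟩ := MulAction.exists_smul_eq X P Q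
  have hmem : k * g * k⁻¹ ∈ Subgroup.zpowers g₀ := by
    show k * g * k⁻¹ ∈ (Q : Subgroup X)
    rw [← hk]
    exact Subgroup.smul_mem_pointwise_smul g (MulAut.conj k) (P : Subgroup X) (Subgroup.mem_zpowers g)
  have hz : Subgroup.zpowers (k * g * k⁻¹) = Subgroup.zpowers g₀ :=
    Subgroup.eq_of_le_of_card_ge (Subgroup.zpowers_le.2 hmem) (by
      rw [Nat.card_zpowers, Nat.card_zpowers, orderOf_conj', hg, hg₀])
  rw [← M.card_fix_conj k g]
  exact Nat.card_congr (Equiv.subtypeEquivRight fun v =>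
    ⟨fun hv => M.fix_mono (hz ▸ Subgroup.mem_zpowers g₀) hv, fun hv => M.fix_mono hmem hv⟩)

theorem card_fix_involution {b : X} (hb : b * b = 1) (hb1 : b ≠ 1) : Nat.card {v : V // M.φ b v = v} = 16 := by
  obtain ⟨k, d, hd⟩ := M.involution_conj hb
  rw [← M.card_fix_conj k b, ← hd, ← fix_card d (M.ρ_inj (by rw [map_mul, hd, map_one,
    show k * b * k⁻¹ * (k * b * k⁻¹) = k * (b * b) * k⁻¹ by group, hb]; group))
    (fun e => hb1 (conj_eq_one_iff.1 (by rw [← hd, e, map_one]))), ← M.card_eq]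
  exact Nat.card_congr (Equiv.subtypeEquivRight fun v => M.fix_iff d v)

theorem central_facts : orderOf (M.ρ (r 2)) = 2 ∧
    Nonempty (Subgroup.centralizer ({M.ρ (r 2)} : Set X) ≃* DihedralGroup 4) := by
  haveI : Fact (Nat.Prime 2) := ⟨Nat.prime_two⟩
  refine ⟨orderOf_eq_prime (by rw [← map_pow]; exact map_one M.ρ) fun e => absurd (M.ρ_inj (e.trans (map_one M.ρ).symm))
    (by decide), ?_⟩
  set C := Subgroup.centralizer ({M.ρ (r 2)} : Set X)
  have hC : IsPGroup 2 C := fun x => by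
    obtain ⟨k, hk⟩ := SCA.exists_odd_pow (orderOf_pos (x : X))
    exact ⟨k, Subtype.ext (M.centralizer_central hk.1 (Subgroup.mem_centralizer_singleton_iff.1 (C.pow_mem x.2 _)))⟩
  obtain ⟨T, hT⟩ := M.sylow
  have hle : (T : Subgroup X) ≤ C := by
    rw [hT]
    rintro _ ⟨d, rfl⟩
    exact Subgroup.mem_centralizer_singleton_iff.2 (by rw [← map_mul, ← map_mul, d8_r2_comm])
  exact ⟨(MulEquiv.subgroupCongr ((T.is_maximal' hC hle).trans hT)).trans (MonoidHom.ofInjective M.ρ_inj).symm⟩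

include M in
/-- the automiser is a two-group, or is of order dividing 168 with few fixed points -/
theorem alternatives :
    IsPGroup 2 X ∨ (Nat.card X ∣ 168 ∧ ∀ g : X, Odd (orderOf g) → g ≠ 1 → Nat.card {v : V // M.φ g v = v} ≤ 4) := by
  haveI : Fact (Nat.Prime 2) := ⟨Nat.prime_two⟩
  haveI := M.finite_V
  obtain ⟨ht, ⟨e⟩⟩ := M.central_facts
  rcases Lead.CentDEight.classification ht e with hcase | ⟨⟨ψ⟩⟩ | ⟨⟨ψ⟩⟩ | ⟨⟨ψ⟩⟩ | ⟨⟨ψ⟩⟩
  · left
    set O := oddCore X
    haveI : O.Normal := StrongProd.oddCore_normal X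
    have hodd : ∀ o ∈ O, Odd (orderOf o) := fun o ho =>
      Odd.of_dvd_nat (StrongProd.oddCore_odd X) (Subgroup.orderOf_dvd_natCard O ho)
    -- every involution inverts the odd core
    have hinv : ∀ b : X, b * b = 1 → b ≠ 1 → ∀ o ∈ O, b * o * b⁻¹ = o⁻¹ := by
      intro b hb hb1
      let f : O → O := fun o => ⟨(o : X)⁻¹ * (b * o * b⁻¹), O.mul_mem (O.inv_mem o.2) (‹O.Normal›.conj_mem _ o.2 b)⟩
      have hinj : Function.Injective f := fun p q hpq => by
        have h1 : (p : X)⁻¹ * (b * p * b⁻¹) = (q : X)⁻¹ * (b * q * b⁻¹) := congrArg Subtype.val hpq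
        have h2 : (q : X) * (p : X)⁻¹ * b = b * ((q : X) * (p : X)⁻¹) := by
          calc (q : X) * (p : X)⁻¹ * b = (q : X) * ((p : X)⁻¹ * (b * p * b⁻¹)) * (b * (p : X)⁻¹) := by group
            _ = (q : X) * ((q : X)⁻¹ * (b * q * b⁻¹)) * (b * (p : X)⁻¹) := by rw [h1]
            _ = b * ((q : X) * (p : X)⁻¹) := by group
        have h3 := M.odd_comm_involution (hodd _ (O.mul_mem q.2 (O.inv_mem p.2))) hb hb1 h2
        exact (Subtype.ext (mul_inv_eq_one.1 h3)).symm
      intro o ho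
      obtain ⟨p, hp⟩ := (Finite.injective_iff_surjective.1 hinj) ⟨o, ho⟩
      have hp' : (p : X)⁻¹ * (b * p * b⁻¹) = o := congrArg Subtype.val hp
      rw [← hp', inv_eq_of_mul_eq_one_left hb]
      calc b * ((p : X)⁻¹ * (b * p * b)) * b = b * (p : X)⁻¹ * b * p * (b * b) := by group
        _ = b⁻¹ * (p : X)⁻¹ * b⁻¹ * p := by rw [hb, mul_one, inv_eq_of_mul_eq_one_left hb]
        _ = _ := by rw [inv_eq_of_mul_eq_one_left hb]; group; rw [show b ^ (-1 : ℤ) = b by rw [zpow_neg_one]; exact inv_eq_of_mul_eq_one_left hb]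
    have hO : O = ⊥ := eq_bot_iff.2 fun o ho => by
      have hne : ∀ d : DihedralGroup 4, d ≠ 1 → M.ρ d ≠ 1 := fun d hd e => hd (M.ρ_inj (e.trans (map_one M.ρ).symm))
      have hsq : ∀ d : DihedralGroup 4, d * d = 1 → M.ρ d * M.ρ d = 1 := fun d hd => by rw [← map_mul, hd, map_one]
      have h1 := hinv (M.ρ (r 2)) (hsq _ rfl) (hne _ (by decide)) o ho
      have h2 := hinv (M.ρ (sr 0)) (hsq _ rfl) (hne _ (by decide)) o ho
      have h3 := hinv (M.ρ (r 2 * sr 0)) (hsq _ rfl) (hne _ (by decide)) o ho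
      rw [map_mul, show M.ρ (r 2) * M.ρ (sr 0) * o * (M.ρ (r 2) * M.ρ (sr 0))⁻¹ =
        M.ρ (r 2) * (M.ρ (sr 0) * o * (M.ρ (sr 0))⁻¹) * (M.ρ (r 2))⁻¹ by group, h2,
        show M.ρ (r 2) * o⁻¹ * (M.ρ (r 2))⁻¹ = (M.ρ (r 2) * o * (M.ρ (r 2))⁻¹)⁻¹ by group, h1, inv_inv] at h3
      refine Subgroup.mem_bot.2 (orderOf_eq_one_iff.1 ?_)
      have h4 : orderOf o ∣ 2 := orderOf_dvd_of_pow_eq_one (by rw [pow_two]; nth_rewrite 1 [h3]; exact inv_mul_cancel o)
      rcases (Nat.dvd_prime Nat.prime_two).1 h4 with h5 | h5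
      · exact h5
      · exact absurd (hodd o ho) (by rw [h5]; decide)
    rw [hO, sup_bot_eq] at hcase
    intro x
    have hx : x ∈ Subgroup.centralizer ({M.ρ (r 2)} : Set X) := hcase ▸ Subgroup.mem_top x
    obtain ⟨k, hk⟩ := SCA.exists_odd_pow (orderOf_pos x)
    exact ⟨k, M.centralizer_central hk.1
      (Subgroup.mem_centralizer_singleton_iff.1 (Subgroup.pow_mem _ hx _))⟩
  · -- symmetric group of degree four
    right
    have hc : Nat.card X = 24 := by rw [Nat.card_congr ψ.toEquiv, Nat.card_perm, Nat.card_fin]; rfl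
    refine ⟨by rw [hc]; decide, fun g hgo hg1 => ?_⟩
    obtain ⟨h, a, b, hh, hh1, ha, hb, ha1, hb1, hab, hcm, h1, h2⟩ := four_group
    have hne : ∀ x : Equiv.Perm (Fin 4), x ≠ 1 → ψ.symm x ≠ 1 := fun x hx e => hx (ψ.symm.map_eq_one_iff.1 e)
    have hbound := (M.fixed_common (h := ψ.symm h) (a := ψ.symm a) (b := ψ.symm b)
      (by rw [← map_mul, ha, map_one]) (by rw [← map_mul, hb, map_one]) (hne a ha1) (hne b hb1)
      (fun e => hab (ψ.symm.injective e)) (by rw [← map_mul, hcm, map_mul])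
      (by rw [← map_inv, ← map_mul, ← map_mul, h1]) (by rw [← map_inv, ← map_mul, ← map_mul, h2, map_mul])).2
    haveI : Fact (Nat.Prime 3) := ⟨Nat.prime_three⟩
    have ho : orderOf g = 3 := by
      have h1 : orderOf g ∣ 24 := hc ▸ orderOf_dvd_natCard g
      have h2 : orderOf g ∣ 3 := ((Nat.coprime_two_right.2 hgo).pow_right 3).dvd_of_dvd_mul_left (show orderOf g ∣ 2 ^ 3 * 3 from h1)
      exact ((Nat.dvd_prime Nat.prime_three).1 h2).resolve_left fun e => hg1 (orderOf_eq_one_iff.1 e)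
    rw [M.card_fix_prime (p := 3) (by rw [hc]; simp [Nat.factorization_def _ Nat.prime_three]; decide +kernel) ho
      (orderOf_eq_prime (by rw [pow_three', ← map_mul, ← map_mul, hh, map_one]) (hne h hh1))]
    exact hbound
  · -- symmetric group of degree five
    exfalso
    obtain ⟨h3, h1, hb, hb1, hc⟩ := five_facts
    refine h1 (ψ.symm.map_eq_one_iff.1 (M.odd_comm_involution (b := ψ.symm five.2) ?_ (by rw [← map_mul, hb, map_one])
      (fun e => hb1 (ψ.symm.map_eq_one_iff.1 e)) (by rw [← map_mul, hc, map_mul])))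
    haveI : Fact (Nat.Prime 3) := ⟨Nat.prime_three⟩
    rw [ψ.symm.orderOf_eq, orderOf_eq_prime (by rw [pow_three', h3]) h1]
    decide
  · -- the group of order 168
    right
    have hc : Nat.card X = 168 := by rw [Nat.card_congr ψ.toEquiv, sl_card]
    refine ⟨by rw [hc], fun g hgo hg1 => ?_⟩
    obtain ⟨s1, s2, s3, s4, a1, b1, z1, a2, b2, z2, n1, n2, c1, c2, nc⟩ := sl_facts
    obtain ⟨t1, t2, t3, t4⟩ := sl_tri
    set f := ψ.symm with hf
    have hne : ∀ x : L32, x ≠ 1 → f x ≠ 1 := fun x hx e => hx (f.map_eq_one_iff.1 e)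
    have hA := M.fixed_common (h := f triA) (a := f traA) (b := f traZ)
      (by rw [← map_mul, a1, map_one]) (by rw [← map_mul, z1, map_one]) (hne _ a2) (hne _ z2)
      (fun e => n1 (f.injective e)) (by rw [← map_mul, c1, map_mul])
      (by rw [← map_inv, ← map_mul, ← map_mul, t1]) (by rw [← map_inv, ← map_mul, ← map_mul, t2, map_mul])
    have hB := M.fixed_common (h := f triB) (a := f traB) (b := f traZ)
      (by rw [← map_mul, b1, map_one]) (by rw [← map_mul, z1, map_one]) (hne _ b2) (hne _ z2)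
      (fun e => n2 (f.injective e)) (by rw [← map_mul, c2, map_mul])
      (by rw [← map_inv, ← map_mul, ← map_mul, t3]) (by rw [← map_inv, ← map_mul, ← map_mul, t4, map_mul])
    -- nothing is fixed by the two generators
    have hmeet : ∀ v, M.φ (f sevenEl) v = v → M.φ (f traA) v = v → v = 1 := by
      intro v v1 v2
      have hK : ∀ l : List L32, (∀ x ∈ l, x = sevenEl ∨ x = traA) → M.φ (f l.prod) v = v := fun l hl => by
        show f l.prod ∈ M.stab v
        rw [map_list_prod]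
        refine Subgroup.list_prod_mem _ fun y hy => ?_
        obtain ⟨x, hx, rfl⟩ := List.mem_map.1 hy
        rcases hl x hx with rfl | rfl
        · exact v1
        · exact v2
      obtain ⟨w1, w2, w3, w4⟩ := sl_words
      have vz : M.φ (f traZ) v = v := by rw [w1]; exact hK _ (by simp)
      have vb : M.φ (f traB) v = v := by rw [w2]; exact hK _ (by simp)
      have va : M.φ (f triA) v = v := by rw [w3]; exact hK _ (by simp)
      have vb' : M.φ (f triB) v = v := by rw [w4]; exact hK _ (by simp)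
      have i1 := (hA.1 v va v2 vz).1
      have i2 := (hB.1 v vb' vb vz).1
      -- both transvections lie in one Sylow subgroup
      have hP : IsPGroup 2 (Subgroup.centralizer ({f traZ} : Set X)) := fun x => by
        obtain ⟨k, hk⟩ := SCA.exists_odd_pow (orderOf_pos (x : X))
        refine ⟨k, Subtype.ext (M.odd_comm_involution hk.1 (by rw [← map_mul, z1, map_one]) (hne _ z2)
          (Subgroup.mem_centralizer_singleton_iff.1 (Subgroup.pow_mem _ x.2 _)))⟩
      obtain ⟨k, hk⟩ := M.conj_into hP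
      obtain ⟨d, hd⟩ := hk (f traA) (Subgroup.mem_centralizer_singleton_iff.2 (by rw [← map_mul, c1, map_mul]))
      obtain ⟨d', hd'⟩ := hk (f traB) (Subgroup.mem_centralizer_singleton_iff.2 (by rw [← map_mul, c2, map_mul]))
      have hcj : ∀ x y : L32, k * f x * k⁻¹ * (k * f y * k⁻¹) = k * f (x * y) * k⁻¹ := fun x y => by
        rw [map_mul]; group
      have i1' := M.inI_conj (h := k) i1
      have i2' := M.inI_conj (h := k) i2
      rw [← hd, M.inI_iff] at i1'
      rw [← hd', M.inI_iff] at i2'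
      refine (M.φ k).map_eq_one_iff.1 (M.c_eq_zero (noncomm_facts d d' (M.ρ_inj ?_) (M.ρ_inj ?_) (fun e => nc (f.injective ?_))
        ⟨_, M.lt _⟩ i1' i2'))
      · rw [map_mul, hd, hcj, a1, map_one, map_one]; group
      · rw [map_mul, hd', hcj, b1, map_one, map_one]; group
      · have e' := congrArg M.ρ e
        rw [map_mul, map_mul, hd, hd', hcj, hcj] at e'
        exact mul_left_cancel (mul_right_cancel e')
    have h16 := M.card_fix_involution (b := f traA) (by rw [← map_mul, a1, map_one]) (hne _ a2)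
    have h7 : Nat.card {v : V // M.φ (f sevenEl) v = v} ≤ 4 := by
      let μ : {v : V // M.φ (f sevenEl) v = v} × {v : V // M.φ (f traA) v = v} → V := fun p => p.1.1 * p.2.1
      have hμ : Function.Injective μ := by
        rintro ⟨⟨x, hx⟩, ⟨y, hy⟩⟩ ⟨⟨x', hx'⟩, ⟨y', hy'⟩⟩ he
        have he' : x * y = x' * y' := he
        have hxy : x' * x = y' * y := by
          rw [← M.sq_mul x' y', ← he', mul_assoc, mul_assoc x, M.sq, mul_one]
        have h1 : x' * x = 1 := hmeet _ (by rw [map_mul, hx, hx']) (by rw [hxy, map_mul, hy, hy'])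
        have h2 : x' = x := mul_right_cancel (h1.trans (M.sq x).symm)
        subst h2
        exact Prod.ext rfl (Subtype.ext (mul_left_cancel he'))
      have := Nat.card_le_card_of_injective μ hμ
      rw [Nat.card_prod, h16, M.card_V] at this
      omega
    -- reduce to an element of prime order
    obtain ⟨p, hp, hpd⟩ := Nat.exists_prime_and_dvd (show orderOf g ≠ 1 from fun e => hg1 (orderOf_eq_one_iff.1 e))
    haveI : Fact p.Prime := ⟨hp⟩
    set g' := g ^ (orderOf g / p) with hg'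
    have hgp : orderOf g' = p := by
      rw [hg', orderOf_pow_of_dvd (Nat.div_pos (Nat.le_of_dvd (orderOf_pos g) hpd) hp.pos).ne'
        (Nat.div_dvd_of_dvd hpd), Nat.div_div_self hpd (orderOf_pos g).ne']
    have hmono : Nat.card {v : V // M.φ g v = v} ≤ Nat.card {v : V // M.φ g' v = v} :=
      Nat.card_le_card_of_injective (fun v => ⟨v.1, M.fix_mono (Subgroup.npow_mem_zpowers g _) v.2⟩)
        (fun a b e => Subtype.ext (congrArg (fun z : {v : V // M.φ g' v = v} => z.1) e))
    refine hmono.trans ?_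
    have hp2 : p ≠ 2 := fun e => by
      obtain ⟨j, hj⟩ := hgo
      obtain ⟨i, hi⟩ := hpd
      subst e
      omega
    have hpc : p ∣ 2 ^ 3 * (3 * 7) := by
      have := hpd.trans (orderOf_dvd_natCard g)
      rwa [hc] at this
    rcases hp.dvd_mul.1 hpc with h | h
    · exact absurd ((Nat.prime_dvd_prime_iff_eq hp Nat.prime_two).1 (hp.dvd_of_dvd_pow h)) hp2
    rcases hp.dvd_mul.1 h with h | h
    · obtain rfl := (Nat.prime_dvd_prime_iff_eq hp Nat.prime_three).1 h
      rw [M.card_fix_prime (p := 3) (by rw [hc]; simp [Nat.factorization_def _ Nat.prime_three]; decide +kernel) hgp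
        (orderOf_eq_prime (by rw [pow_three', ← map_mul, ← map_mul, s3, map_one]) (hne _ s4))]
      exact hA.2
    · have h7p : Nat.Prime 7 := by norm_num
      obtain rfl := (Nat.prime_dvd_prime_iff_eq hp h7p).1 h
      rw [M.card_fix_prime (p := 7) (by rw [hc]; simp [Nat.factorization_def _ h7p]; decide +kernel) hgp
        (orderOf_eq_prime (by rw [← map_pow, s1, map_one]) (hne _ s2))]
      exact h7
  · -- alternating group of degree six
    exfalso
    obtain ⟨g, a, b, h4, h2, ha, hb, hc, hga, hgb, ha1⟩ := six_exists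
    set f := ψ.symm
    refine ha1 (f.map_eq_one_iff.1 (M.no_three_sq (g := f g) (b := f b) (by rw [← map_pow, h4, map_one])
      (fun e => h2 (f.injective (by rw [map_mul, e, map_one]))) (by rw [← map_mul, ← map_mul, ha, map_one])
      (by rw [← map_mul, ← map_mul, hb, map_one]) (by rw [← map_mul, hc, map_mul])
      (by rw [← map_inv, ← map_mul, ← map_mul, hga]) (by rw [← map_inv, ← map_mul, ← map_mul, hgb, map_inv])))

end Act

end Cfsg.Agent.Local.M24A
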