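import Cfsg.Agent.Lib.Local.M24Abelian.Semantics
import Cfsg.Agent.Lib.Local.SCAbelian.Quot
import Cfsg.Agent.Lib.Lead.CentDEight
import Mathlib

/-!
Groups acting faithfully on six dimensions over two elements, with the given dihedral Sylow action.
-/

set_option autoImplicit false
set_option linter.style.haveILetI false
set_option maxRecDepth 100000

namespace Cfsg.Agent.Local.M24A

open DihedralGroup

/-- the code of an element of the dihedral group -/
def dcode : DihedralGroup 4 → Fin 8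
  | .r k => ![0, 6, 1, 7] k
  | .sr k => ![2, 4, 3, 5] k

theorem dcode_mul : ∀ d e : DihedralGroup 4, (dcode (d * e)).val = pu (dcode d).val (dcode e).val := by decide +kernel

theorem dcode_faithful : ∀ d : DihedralGroup 4, (∀ x : Fin 64, act (dcode d).val x.val = x.val) → d = 1 := by
  decide +kernel

theorem dcode_bij : Function.Bijective dcode := by decide +kernel

/-- the codes of the commutators with `u` -/
def imgL (u : ℕ) : List ℕ := (List.range 64).map fun y => act u y ^^^ y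

theorem img_facts :
    (∀ x : Fin 64, act 6 x.val = x.val → x.val = 0 ∨ x.val = 1 ∨ x.val = 32 ∨ x.val = 33) ∧
    (∀ x : Fin 64, x.val ∈ imgL 2 → x.val ∈ imgL 3 → x.val = 0 ∨ x.val = 32) ∧
    (∀ x : Fin 64, x.val ∈ imgL 4 → x.val ∈ imgL 5 → x.val = 0 ∨ x.val = 1) ∧
    32 ∈ imgL 2 ∧ 32 ∈ imgL 3 ∧ 1 ∈ imgL 4 ∧ 1 ∈ imgL 5 := by decide +kernel

theorem layer_facts :
    (∀ d : DihedralGroup 4, ∀ x : Fin 64, x.val ∈ imgL 1 → act (dcode d).val x.val = x.val) ∧
    (∀ d : DihedralGroup 4, ∀ x : Fin 64, act 1 x.val = x.val → act (dcode d).val x.val ^^^ x.val ∈ imgL 1) ∧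
    (∀ x : Fin 64, act 1 (act 1 x.val ^^^ x.val) = act 1 x.val ^^^ x.val) ∧
    (∀ x : Fin 64, act 6 (act 6 (act 6 x.val ^^^ x.val) ^^^ (act 6 x.val ^^^ x.val)) =
      act 6 (act 6 x.val ^^^ x.val) ^^^ (act 6 x.val ^^^ x.val)) := by decide +kernel

theorem refl_facts : ∀ k : ZMod 4, ∀ x : Fin 64,
    (x.val ∈ imgL (dcode (sr k)).val → act 1 x.val = x.val ∧ act (dcode (sr k)).val x.val = x.val) ∧
    (act (dcode (sr k)).val x.val = x.val → act 1 x.val ^^^ x.val ∈ imgL (dcode (sr k)).val) := by decide +kernel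

theorem rot_sum : ∀ x : Fin 64,
    x.val ^^^ act 6 x.val ^^^ act 1 x.val ^^^ act 7 x.val = 0 := by decide +kernel

/-- the list of the fixed points of `u` has sixteen entries -/
theorem fix_count : ∀ d : DihedralGroup 4, d * d = 1 → d ≠ 1 →
    ((List.range 64).filter fun x => act (dcode d).val x == x).length = 16 := by decide +kernel

/-- two commuting involutions -/
def fourB (d e : DihedralGroup 4) : Bool :=
  decide (d * d = 1) && decide (e * e = 1) && !decide (d = 1) && !decide (e = 1) && !decide (d = e) &&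
    decide (d * e = e * d)

theorem four_unique : ∀ d e : DihedralGroup 4, fourB d e = true → ∀ x : Fin 64, x.val ∈ imgL (dcode d).val →
    x.val ∈ imgL (dcode e).val → x.val ≠ 0 → ∀ y : Fin 64, y.val ∈ imgL (dcode d).val →
      y.val ∈ imgL (dcode e).val → y.val ≠ 0 → x = y := by decide +kernel

theorem four_fixed : ∀ d e : DihedralGroup 4, fourB d e = true → ∀ x : Fin 64, act (dcode d).val x.val = x.val →
    act (dcode e).val x.val = x.val →
      x.val ∈ imgL (dcode d).val ∨ x.val ∈ imgL (dcode e).val ∨ x.val ∈ imgL (dcode (d * e)).val := by decide +kernel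

theorem four_exists : ∀ d e : DihedralGroup 4, fourB d e = true →
    ∃ x : Fin 64, x.val ≠ 0 ∧ x.val ∈ imgL (dcode d).val ∧ x.val ∈ imgL (dcode e).val := by decide +kernel

theorem img_count : ∀ d : DihedralGroup 4, d * d = 1 → d ≠ 1 →
    ((List.range 64).filter fun x => decide (x ∈ imgL (dcode d).val)).length = 4 := by decide +kernel

theorem noncomm_facts : ∀ d e : DihedralGroup 4, d * d = 1 → e * e = 1 → d * e ≠ e * d →
    ∀ x : Fin 64, x.val ∈ imgL (dcode d).val → x.val ∈ imgL (dcode e).val → x.val = 0 := by decide +kernel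

theorem zmod_four : ∀ k j : ZMod 4, j + k + k + k + k = j ∧ sr 0 * r j = r (-j) * sr 0 := by decide

theorem d8_r2_comm : ∀ x : DihedralGroup 4, r 2 * x = x * r 2 := by decide

theorem d8_r2_prod : ∀ x : DihedralGroup 4, r 2 * x * r 2 = x := by decide

theorem d8_sq_central : ∀ d : DihedralGroup 4, d * d = r 2 → d = r 1 ∨ d = r 3 := by decide

theorem d8_involution : ∀ d : DihedralGroup 4, d * d = 1 → d ≠ 1 → d ≠ r 2 → ∃ k, d = sr k := by decide

theorem d8_four : ∀ x : DihedralGroup 4, x * x ≠ 1 → x = r 1 ∨ x = r 3 := by decide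

universe u v

/-- An action of `X` on `V`, read through codes, with the given Sylow action. -/
structure Act (X : Type u) [Group X] (V : Type v) [Group V] where
  c : V → ℕ
  lt : ∀ v, c v < 64
  inj : Function.Injective c
  surj : ∀ x < 64, ∃ v, c v = x
  add : ∀ v w, c (v * w) = c v ^^^ c w
  φ : X →* MulAut V
  φ_inj : Function.Injective φ
  ρ : DihedralGroup 4 →* X
  hφρ : ∀ d v, c (φ (ρ d) v) = act (dcode d).val (c v)
  sylow : ∃ T : Sylow 2 X, (T : Subgroup X) = ρ.range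

section generic

variable {X : Type u} [Group X]

theorem comm_of_sq {h x : X} (ho : Odd (orderOf h)) (hc : h * h * x = x * (h * h)) : h * x = x * h := by
  obtain ⟨m, hm⟩ := ho
  have h1 : Commute (h ^ 2) x := by rw [sq]; exact hc
  have h2 : (h ^ 2) ^ (m + 1) = h := by
    rw [← pow_mul, show 2 * (m + 1) = orderOf h + 1 by omega, pow_succ, pow_orderOf_eq_one, one_mul]
  have h3 := h1.pow_left (m + 1)
  rw [h2] at h3
  exact h3.eq

theorem odd_sq {h : X} (ho : Odd (orderOf h)) : Odd (orderOf (h * h)) :=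
  Odd.of_dvd_nat ho (by rw [← sq]; exact orderOf_pow_dvd 2)

theorem inv_conj_pow {t y : X} (h : t * y * t⁻¹ = y⁻¹) (n : ℕ) : t * y ^ n * t⁻¹ = (y ^ n)⁻¹ := by
  rw [← conj_pow, h, inv_pow]

theorem orderOf_conj' (k h : X) : orderOf (k * h * k⁻¹) = orderOf h := (MulAut.conj k).orderOf_eq h

end generic

namespace Act

variable {X : Type u} [Group X] {V : Type v} [Group V] (M : Act X V)

theorem c_one : M.c 1 = 0 := by
  have h := M.add 1 1
  rwa [one_mul, Nat.xor_self] at h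

theorem c_eq_zero {v : V} (h : M.c v = 0) : v = 1 := M.inj (h.trans M.c_one.symm)

include M in
theorem sq (v : V) : v * v = 1 := M.c_eq_zero (by rw [M.add, Nat.xor_self])

include M in
theorem comm (v w : V) : v * w = w * v := M.inj (by rw [M.add, M.add, Nat.xor_comm])

include M in
theorem sq_mul (v w : V) : v * (v * w) = w := by rw [← mul_assoc, M.sq, one_mul]

include M in
theorem card_V : Nat.card V = 64 := by
  let f : V → Fin 64 := fun v => ⟨M.c v, M.lt v⟩
  have hf : Function.Bijective f := ⟨fun a b e => M.inj (congrArg Fin.val e), fun i => by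
    obtain ⟨v, hv⟩ := M.surj i.val i.isLt
    exact ⟨v, Fin.ext hv⟩⟩
  rw [Nat.card_eq_of_bijective f hf, Nat.card_eq_fintype_card, Fintype.card_fin]

include M in
theorem finite_V : Finite V := Nat.finite_of_card_ne_zero (by rw [M.card_V]; norm_num)

theorem φ_mul (g h : X) (v : V) : M.φ (g * h) v = M.φ g (M.φ h v) := by rw [map_mul]; rfl

theorem φ_inv_self (g : X) (v : V) : M.φ g⁻¹ (M.φ g v) = v := by rw [← M.φ_mul, inv_mul_cancel, map_one]; rfl

theorem φ_self_inv (g : X) (v : V) : M.φ g (M.φ g⁻¹ v) = v := by rw [← M.φ_mul, mul_inv_cancel, map_one]; rfl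

theorem φ_comm {g h : X} (hc : g * h = h * g) (v : V) : M.φ g (M.φ h v) = M.φ h (M.φ g v) := by
  rw [← M.φ_mul, hc, M.φ_mul]

theorem eq_one_of_fix {g : X} (h : ∀ v, M.φ g v = v) : g = 1 :=
  M.φ_inj (by rw [map_one]; exact MulEquiv.ext h)

theorem ρ_inj : Function.Injective M.ρ := by
  rw [injective_iff_map_eq_one]
  intro d hd
  refine dcode_faithful d fun x => ?_
  obtain ⟨v, hv⟩ := M.surj x.val x.isLt
  have h := M.hφρ d v
  rw [hd, map_one, MulAut.one_apply, hv] at h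
  exact h.symm

theorem fixed_pow {h : X} {v : V} (hv : M.φ h v = v) : ∀ n : ℕ, M.φ (h ^ n) v = v
  | 0 => by rw [pow_zero, map_one]; rfl
  | n + 1 => by rw [pow_succ, M.φ_mul, hv, fixed_pow hv n]

theorem fix_of_sq {h : X} (ho : Odd (orderOf h)) {v : V} (hv : M.φ h (M.φ h v) = v) : M.φ h v = v := by
  obtain ⟨m, hm⟩ := ho
  have h2 : M.φ (h ^ 2) v = v := by rw [pow_two, M.φ_mul, hv]
  have h3 := M.fixed_pow h2 (m + 1)
  rwa [← pow_mul, show 2 * (m + 1) = orderOf h + 1 by omega, pow_succ, pow_orderOf_eq_one, one_mul] at h3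

theorem fix_of_shift {h : X} (ho : Odd (orderOf h)) {v : V} (hv : M.φ h (M.φ h v * v) = M.φ h v * v) :
    M.φ h v = v := by
  refine M.fix_of_sq ho ?_
  rw [map_mul] at hv
  exact mul_right_cancel (hv.trans (M.comm _ _))

theorem shift {g h : X} (hc : g * h = h * g) {v : V} (hw : M.φ h (M.φ g v * v) = M.φ g v * v) :
    M.φ g (M.φ h v * v) = M.φ h v * v := by
  rw [map_mul] at hw ⊢
  rw [M.φ_comm hc]
  -- both sides differ by the fixed element
  have e1 : M.φ h (M.φ g v) = M.φ g v * v * M.φ h v := by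
    rw [← hw, mul_assoc, M.sq, mul_one]
  rw [e1, M.comm (M.φ g v * v) (M.φ h v), mul_assoc, M.comm (M.φ g v) v, mul_assoc, M.sq, mul_one]

/-- the commutators with the element `g` -/
def inI (g : X) (v : V) : Prop := ∃ a, M.φ g a * a = v

theorem inI_conj {g h : X} {v : V} (hv : M.inI g v) : M.inI (h * g * h⁻¹) (M.φ h v) := by
  obtain ⟨a, rfl⟩ := hv
  exact ⟨M.φ h a, by rw [M.φ_mul, M.φ_mul, M.φ_inv_self, map_mul]⟩

theorem inI_comm {g h : X} (hc : h * g = g * h) {v : V} (hv : M.inI g v) : M.inI g (M.φ h v) := by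
  have := M.inI_conj (h := h) hv
  rwa [hc, mul_inv_cancel_right] at this

theorem inI_iff (d : DihedralGroup 4) (v : V) : M.inI (M.ρ d) v ↔ M.c v ∈ imgL (dcode d).val := by
  rw [imgL, List.mem_map]
  constructor
  · rintro ⟨a, rfl⟩
    exact ⟨M.c a, List.mem_range.2 (M.lt a), by rw [M.add, M.hφρ]⟩
  · rintro ⟨x, hx, hxe⟩
    obtain ⟨a, rfl⟩ := M.surj x (List.mem_range.1 hx)
    exact ⟨a, M.inj (by rw [M.add, M.hφρ, hxe])⟩

theorem fix_iff (d : DihedralGroup 4) (v : V) : M.φ (M.ρ d) v = v ↔ act (dcode d).val (M.c v) = M.c v := by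
  rw [← M.hφρ]
  exact M.inj.eq_iff.symm

/-- An element of odd order that commutes with the Sylow subgroup is trivial. -/
theorem centralizer_sylow {h : X} (ho : Odd (orderOf h)) (hc : ∀ d, h * M.ρ d = M.ρ d * h) : h = 1 := by
  obtain ⟨f1, f2, f3, f4, f5, f6, f7⟩ := img_facts
  have hline : ∀ (x : ℕ) (d e : DihedralGroup 4),
      (∀ y : Fin 64, y.val ∈ imgL (dcode d).val → y.val ∈ imgL (dcode e).val → y.val = 0 ∨ y.val = x) →
      x ∈ imgL (dcode d).val → x ∈ imgL (dcode e).val → ∀ v, M.c v = x → M.φ h v = v := by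
    intro x d e huni hxd hxe v hv
    have h1 := (M.inI_iff d _).1 (M.inI_comm (hc d) ((M.inI_iff d v).2 (hv.symm ▸ hxd)))
    have h2 := (M.inI_iff e _).1 (M.inI_comm (hc e) ((M.inI_iff e v).2 (hv.symm ▸ hxe)))
    rcases huni ⟨_, M.lt _⟩ h1 h2 with h3 | h3
    · have h4 : M.φ h v = 1 := M.c_eq_zero h3
      rw [(M.φ h).map_eq_one_iff.1 h4, map_one]
    · exact M.inj (h3.trans hv.symm)
  have hZ : ∀ v, M.φ (M.ρ (r 1)) v = v → M.φ h v = v := by
    intro v hv
    rcases f1 ⟨_, M.lt v⟩ ((M.fix_iff _ v).1 hv) with h0 | h0 | h0 | h0 <;> simp only at h0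
    · rw [M.c_eq_zero h0, map_one]
    · exact hline 1 (sr 1) (sr 3) f3 f6 f7 v h0
    · exact hline 32 (sr 0) (sr 2) f2 f4 f5 v h0
    · obtain ⟨a, ha⟩ := M.surj 1 (by norm_num)
      obtain ⟨b, hb⟩ := M.surj 32 (by norm_num)
      have hab : v = a * b := M.inj (by rw [M.add, ha, hb, h0]; rfl)
      rw [hab, map_mul, hline 1 (sr 1) (sr 3) f3 f6 f7 a ha, hline 32 (sr 0) (sr 2) f2 f4 f5 b hb]
  have hstep : ∀ v, M.φ h (M.φ (M.ρ (r 1)) v * v) = M.φ (M.ρ (r 1)) v * v → M.φ h v = v := fun v hv =>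
    M.fix_of_shift ho (hZ _ (M.shift (hc _).symm hv))
  refine M.eq_one_of_fix fun v => hstep v (hstep _ (hZ _ ((M.fix_iff _ _).2 ?_)))
  rw [M.add, M.hφρ, M.add, M.hφρ]
  exact layer_facts.2.2.2 ⟨_, M.lt v⟩

variable [Finite X]

include M in
theorem conj_into {P : Subgroup X} (hP : IsPGroup 2 P) : ∃ k : X, ∀ x ∈ P, ∃ d, M.ρ d = k * x * k⁻¹ := by
  haveI : Fact (Nat.Prime 2) := ⟨Nat.prime_two⟩
  obtain ⟨T, hT⟩ := M.sylow
  obtain ⟨Q, hQ⟩ := hP.exists_le_sylow
  obtain ⟨k, hk⟩ := MulAction.exists_smul_eq X Q T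
  refine ⟨k, fun x hx => ?_⟩
  have h : k * x * k⁻¹ ∈ (T : Subgroup X) := by
    rw [← hk]
    exact Subgroup.smul_mem_pointwise_smul x (MulAut.conj k) (Q : Subgroup X) (hQ hx)
  rw [hT] at h
  exact h

theorem involution_conj {b : X} (hb : b * b = 1) : ∃ (k : X) (d : DihedralGroup 4), M.ρ d = k * b * k⁻¹ := by
  haveI : Fact (Nat.Prime 2) := ⟨Nat.prime_two⟩
  have hP : IsPGroup 2 (Subgroup.zpowers b) := by
    intro x
    obtain ⟨j, hj⟩ := x.2
    refine ⟨1, Subtype.ext ?_⟩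
    show (x : X) ^ (2 ^ 1) = 1
    rw [← hj]
    show (b ^ j) ^ (2 ^ 1) = 1
    rw [pow_one, pow_two, ← (Commute.refl b).mul_zpow, hb, one_zpow]
  obtain ⟨k, hk⟩ := M.conj_into hP
  exact ⟨k, hk b (Subgroup.mem_zpowers b)⟩

/-- An element of odd order that commutes with the central involution is trivial. -/
theorem centralizer_central {h : X} (ho : Odd (orderOf h)) (hc : h * M.ρ (r 2) = M.ρ (r 2) * h) : h = 1 := by
  haveI : Fact (Nat.Prime 2) := ⟨Nat.prime_two⟩
  obtain ⟨l1, l2, l3, -⟩ := layer_facts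
  set t := M.ρ (r 2) with ht
  have hI : ∀ v, M.inI t v ↔ M.c v ∈ imgL 1 := fun v => M.inI_iff (r 2) v
  have hF : ∀ v, M.φ t v = v ↔ act 1 (M.c v) = M.c v := fun v => M.fix_iff (r 2) v
  let Q : Subgroup X :=
    { carrier := {x | x * t = t * x ∧ (∀ v, M.inI t v → M.φ x v = v) ∧ ∀ v, M.φ t v = v → M.inI t (M.φ x v * v)}
      one_mem' := ⟨by rw [one_mul, mul_one], fun v _ => by rw [map_one]; rfl, fun v _ => ⟨1, by
        rw [map_one, map_one, MulAut.one_apply, mul_one, M.sq]⟩⟩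
      mul_mem' := fun {x y} ⟨x1, x2, x3⟩ ⟨y1, y2, y3⟩ => by
        refine ⟨by rw [mul_assoc, y1, ← mul_assoc, x1, mul_assoc], fun v hv => by rw [M.φ_mul, y2 v hv, x2 v hv],
          fun v hv => ?_⟩
        obtain ⟨a, ha⟩ := x3 v hv
        obtain ⟨b, hb⟩ := y3 v hv
        refine ⟨a * b, ?_⟩
        have e1 : M.φ x (M.φ y v * v) = M.φ y v * v := x2 _ (y3 v hv)
        rw [map_mul] at e1
        have e2 : M.φ x (M.φ y v) = M.φ y v * v * M.φ x v := by rw [← e1, mul_assoc, M.sq, mul_one]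
        rw [M.φ_mul, e2, map_mul, M.comm a b, mul_assoc (M.φ t a), ← mul_assoc (M.φ t b) b a, hb,
          M.comm (M.φ y v * v) a, ← mul_assoc, ha, M.comm (M.φ x v * v) (M.φ y v * v)]
        simp only [mul_assoc]
      inv_mem' := fun {x} ⟨x1, x2, x3⟩ => by
        have e : ∀ v, M.inI t v → M.φ x⁻¹ v = v := fun v hv => by
          have := M.φ_inv_self x v
          rwa [x2 v hv] at this
        refine ⟨Commute.inv_left x1, e, fun v hv => ?_⟩
        have h2 := M.inI_comm (h := x⁻¹) (Commute.inv_left x1) (x3 v hv)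
        rwa [map_mul, M.φ_inv_self, M.comm] at h2 }
  have hodd : ∀ x ∈ Q, Odd (orderOf x) → x = 1 := fun x hx hxo => by
    have h1 : ∀ v, M.φ t v = v → M.φ x v = v := fun v hv => M.fix_of_shift hxo (hx.2.1 _ (hx.2.2 v hv))
    refine M.eq_one_of_fix fun v => M.fix_of_shift hxo (h1 _ (M.shift hx.1.symm (h1 _ ((hF _).2 ?_))))
    rw [M.add, M.hφρ]
    exact l3 ⟨_, M.lt v⟩
  have hQ : IsPGroup 2 Q := fun x => by
    obtain ⟨k, hk⟩ := SCA.exists_odd_pow (orderOf_pos (x : X))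
    exact ⟨k, Subtype.ext (hodd _ (Q.pow_mem x.2 _) hk.1)⟩
  obtain ⟨T, hT⟩ := M.sylow
  have hle : (T : Subgroup X) ≤ Q := by
    rw [hT]
    rintro _ ⟨d, rfl⟩
    refine ⟨?_, fun v hv => (M.fix_iff d v).2 (l1 d ⟨_, M.lt v⟩ ((hI v).1 hv)), fun v hv => (hI _).2 ?_⟩
    · rw [ht, ← map_mul, ← map_mul]
      congr 1
      revert d; decide
    · rw [M.add, M.hφρ]
      exact l2 d ⟨_, M.lt v⟩ ((hF v).1 hv)
  have hQT : Q = (T : Subgroup X) := T.is_maximal' hQ hle
  have hnorm : ∀ d, ∃ d', M.ρ d' = h * M.ρ d * h⁻¹ := fun d => by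
    have hd : M.ρ d ∈ Q := hle (hT ▸ ⟨d, rfl⟩)
    obtain ⟨d1, d2, d3⟩ := hd
    have hinv : h⁻¹ * t = t * h⁻¹ := Commute.inv_left hc
    have hmem : h * M.ρ d * h⁻¹ ∈ Q := by
      refine ⟨?_, fun v hv => ?_, fun v hv => ?_⟩
      · exact ((Commute.mul_left (Commute.mul_left hc d1) hinv))
      · rw [M.φ_mul, M.φ_mul, d2 _ (M.inI_comm hinv hv), M.φ_self_inv]
      · have h4 := M.inI_comm hc (d3 (M.φ h⁻¹ v) (by rw [M.φ_comm hinv.symm, hv]))
        rwa [map_mul, M.φ_self_inv, ← M.φ_mul, ← M.φ_mul] at h4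
    rw [hQT, hT] at hmem
    exact hmem
  -- the rotation
  have hr : h * M.ρ (r 1) = M.ρ (r 1) * h := by
    obtain ⟨d, hd⟩ := hnorm (r 1)
    have h1 : d * d = r 2 := M.ρ_inj (by
      rw [map_mul, hd, show h * M.ρ (r 1) * h⁻¹ * (h * M.ρ (r 1) * h⁻¹) = h * (M.ρ (r 1) * M.ρ (r 1)) * h⁻¹ by group,
        ← map_mul, show (r 1 : DihedralGroup 4) * r 1 = r 2 from rfl, ← ht, hc, mul_inv_cancel_right])
    rcases d8_sq_central d h1 with rfl | rfl
    · exact (eq_mul_inv_iff_mul_eq.1 hd).symm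
    · refine comm_of_sq ho ?_
      have h2 : h * M.ρ (r 3) * h⁻¹ = M.ρ (r 1) := by
        have e3 : (r 3 : DihedralGroup 4) = (r 1)⁻¹ := by decide
        rw [e3, map_inv, show h * (M.ρ (r 1))⁻¹ * h⁻¹ = (h * M.ρ (r 1) * h⁻¹)⁻¹ by group, ← hd, ← map_inv]
        rfl
      rw [hd] at h2
      calc h * h * M.ρ (r 1) = (h * (h * M.ρ (r 1) * h⁻¹) * h⁻¹) * (h * h) := by group
        _ = M.ρ (r 1) * (h * h) := by rw [h2]
  -- a reflection
  obtain ⟨d, hd⟩ := hnorm (sr 0)
  have hd1 : d * d = 1 := M.ρ_inj (by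
    rw [map_mul, map_one, hd, show h * M.ρ (sr 0) * h⁻¹ * (h * M.ρ (sr 0) * h⁻¹) = h * (M.ρ (sr 0) * M.ρ (sr 0)) * h⁻¹ by group,
      ← map_mul, show (sr 0 : DihedralGroup 4) * sr 0 = 1 from rfl, map_one, mul_one, mul_inv_cancel])
  have hd2 : ∀ e, h * M.ρ e = M.ρ e * h → d = e → e = sr 0 := by
    intro e he hde
    have h3 : h * M.ρ e * h⁻¹ = M.ρ e := by rw [he, mul_inv_cancel_right]
    rw [← hde] at h3
    have h4 : h * M.ρ d * h⁻¹ = h * M.ρ (sr 0) * h⁻¹ := h3.trans hd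
    exact hde ▸ M.ρ_inj (mul_left_cancel (mul_right_cancel h4))
  obtain ⟨k, rfl⟩ := d8_involution d hd1
    (fun e => absurd (hd2 1 (by rw [map_one, one_mul, mul_one]) e) (by decide))
    (fun e => absurd (hd2 (r 2) hc e) (by decide))
  have hs : h * M.ρ (sr 0) = M.ρ (sr 0) * h := by
    have hrk : ∀ j : ZMod 4, h * M.ρ (r j) = M.ρ (r j) * h := fun j => by
      have e : (r j : DihedralGroup 4) = r 1 ^ j.val := by rw [DihedralGroup.r_one_pow, ZMod.natCast_zmod_val]
      rw [e, map_pow]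
      exact (show Commute h (M.ρ (r 1)) from hr).pow_right _
    have step : ∀ j : ZMod 4, h * M.ρ (sr j) * h⁻¹ = M.ρ (sr (j + k)) := fun j => by
      have e1 : (sr j : DihedralGroup 4) = sr 0 * r j := by rw [sr_mul_r, zero_add]
      have e2 : (sr (j + k) : DihedralGroup 4) = sr k * r j := by rw [sr_mul_r, add_comm]
      rw [e2, e1, map_mul, map_mul, hd]
      calc h * (M.ρ (sr 0) * M.ρ (r j)) * h⁻¹ = h * M.ρ (sr 0) * h⁻¹ * (h * M.ρ (r j) * h⁻¹) := by group
        _ = _ := by rw [hrk, mul_inv_cancel_right]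
    refine comm_of_sq ho (comm_of_sq ?_ ?_)
    · exact odd_sq ho
    · calc h * h * (h * h) * M.ρ (sr 0) = h * (h * (h * (h * M.ρ (sr 0) * h⁻¹) * h⁻¹) * h⁻¹) * h⁻¹ * (h * h * (h * h)) := by group
        _ = M.ρ (sr 0) * (h * h * (h * h)) := by
          rw [step, step, step, step]
          rw [(zmod_four k 0).1]
  refine M.centralizer_sylow ho fun e => ?_
  have hgen : ∀ e : DihedralGroup 4, ∃ j : ZMod 4, e = r j ∨ e = sr 0 * r j := by decide
  obtain ⟨j, he⟩ := hgen e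
  have hj : h * M.ρ (r j) = M.ρ (r j) * h := by
    have e : (r j : DihedralGroup 4) = r 1 ^ j.val := by rw [DihedralGroup.r_one_pow, ZMod.natCast_zmod_val]
    rw [e, map_pow]
    exact (show Commute h (M.ρ (r 1)) from hr).pow_right _
  rcases he with rfl | rfl
  · exact hj
  · rw [map_mul]
    exact (show Commute h (M.ρ (sr 0)) from hs).mul_right hj

/-- An element of odd order that commutes with a reflection and is inverted by the central involution is trivial. -/
theorem refl_inverted {h : X} (ho : Odd (orderOf h)) (k : ZMod 4) (hc : h * M.ρ (sr k) = M.ρ (sr k) * h)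
    (hi : M.ρ (r 2) * h * (M.ρ (r 2))⁻¹ = h⁻¹) : h = 1 := by
  set s := M.ρ (sr k) with hs
  set t := M.ρ (r 2) with ht
  have hth : ∀ v, M.φ t (M.φ h v) = M.φ h⁻¹ (M.φ t v) := fun v => by
    rw [← M.φ_mul, ← M.φ_mul, ← hi, inv_mul_cancel_right]
  have hI : ∀ v, M.inI s v → M.φ t v = v ∧ M.φ s v = v := fun v hv =>
    ⟨(M.fix_iff _ _).2 ((refl_facts k ⟨_, M.lt v⟩).1 ((M.inI_iff _ _).1 hv)).1,
      (M.fix_iff _ _).2 ((refl_facts k ⟨_, M.lt v⟩).1 ((M.inI_iff _ _).1 hv)).2⟩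
  have hIfix : ∀ v, M.inI s v → M.φ h v = v := fun v hv => by
    refine M.fix_of_sq ho ?_
    have h1 := hth v
    rw [(hI _ (M.inI_comm hc hv)).1, (hI v hv).1] at h1
    rw [h1, M.φ_self_inv]
  have hT : ∀ v, M.φ s v = v → M.inI s (M.φ t v * v) := fun v hv => by
    rw [hs, M.inI_iff, M.add, ht, M.hφρ]
    exact (refl_facts k ⟨_, M.lt v⟩).2 ((M.fix_iff _ _).1 hv)
  have hCfix : ∀ v, M.φ s v = v → M.φ h v = v := by
    intro v hv
    obtain ⟨a, ha⟩ := hT v hv
    have hw : M.inI s (M.φ t v * v) := hT v hv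
    have hhv : M.φ s (M.φ h v) = M.φ h v := by rw [M.φ_comm hc.symm, hv]
    have hw' : M.φ h (M.φ t (M.φ h v) * M.φ h v) = M.φ t (M.φ h v) * M.φ h v := hIfix _ (hT _ hhv)
    have hw0 : M.φ h (M.φ t v * v) = M.φ t v * v := hIfix _ hw
    rw [hth, map_mul, M.φ_self_inv] at hw'
    rw [map_mul] at hw0
    -- the square shifts by a fixed element
    have e1 : M.φ h (M.φ h v) = M.φ t v * (M.φ h⁻¹ (M.φ t v) * M.φ h v) := by
      rw [← hw', M.sq_mul]
    have e3 : M.φ h⁻¹ (M.φ t v) = M.φ t v * v * M.φ h⁻¹ v := by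
      have h3 := congrArg (M.φ h⁻¹) hw0
      rw [map_mul, M.φ_inv_self, M.φ_inv_self, map_mul] at h3
      rw [h3, mul_assoc, M.sq, mul_one]
    refine M.fix_of_sq ho ?_
    -- so the square is the shift of a commutator
    have e4 : M.φ h (M.φ h v) * v = M.φ h⁻¹ v * M.φ h v := by
      rw [e1, e3]
      calc M.φ t v * (M.φ t v * v * M.φ h⁻¹ v * M.φ h v) * v
          = M.φ t v * (M.φ t v * (v * (M.φ h⁻¹ v * M.φ h v))) * v := by simp only [mul_assoc]
        _ = v * (M.φ h⁻¹ v * M.φ h v) * v := by rw [M.sq_mul]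
        _ = M.φ h⁻¹ v * M.φ h v := by rw [M.comm v (_ * _), mul_assoc, M.sq, mul_one]
    have hin : M.inI s (M.φ h⁻¹ v * M.φ h v) := by
      have h1 : M.inI s (M.φ t (M.φ h v) * M.φ h v) := hT _ hhv
      rw [hth, e3] at h1
      obtain ⟨b, hb⟩ := h1
      refine ⟨a * b, ?_⟩
      rw [map_mul, M.comm a b, mul_assoc (M.φ s a), ← mul_assoc (M.φ s b), hb, M.comm _ a, ← mul_assoc, ha]
      calc M.φ t v * v * (M.φ t v * v * M.φ h⁻¹ v * M.φ h v)
          = (M.φ t v * v) * ((M.φ t v * v) * (M.φ h⁻¹ v * M.φ h v)) := by simp only [mul_assoc]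
        _ = _ := M.sq_mul _ _
    have hsq : Odd (orderOf (h * h)) := odd_sq ho
    have h5 := M.fix_of_shift hsq (v := v) (by
      rw [M.φ_mul h h v, e4, M.φ_mul, hIfix _ hin, hIfix _ hin])
    rwa [M.φ_mul] at h5
  refine M.eq_one_of_fix fun v => M.fix_of_shift ho (hCfix _ (M.shift hc.symm (hCfix _ ?_)))
  exact (hI _ ⟨v, rfl⟩).2

include M in
/-- An element of odd order that commutes with an involution is trivial. -/
theorem odd_comm_involution {h b : X} (ho : Odd (orderOf h)) (hb : b * b = 1) (hb1 : b ≠ 1)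
    (hc : h * b = b * h) : h = 1 := by
  haveI : Fact (Nat.Prime 2) := ⟨Nat.prime_two⟩
  have hcentral : ∀ (k a : X), M.ρ (r 2) = k * a * k⁻¹ → ∀ g : X, Odd (orderOf g) → g * a = a * g → g = 1 := by
    intro k a he g hgo hga
    have h1 := M.centralizer_central (h := k * g * k⁻¹) (by rwa [orderOf_conj']) (by
      rw [he, show k * g * k⁻¹ * (k * a * k⁻¹) = k * (g * a) * k⁻¹ by group, hga]; group)
    rwa [conj_eq_one_iff] at h1
  obtain ⟨k, d, hd⟩ := M.involution_conj hb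
  have hd1 : d * d = 1 := M.ρ_inj (by
    rw [map_mul, hd, map_one, show k * b * k⁻¹ * (k * b * k⁻¹) = k * (b * b) * k⁻¹ by group, hb, mul_one, mul_inv_cancel])
  have hd0 : d ≠ 1 := fun e => hb1 (conj_eq_one_iff.1 (by rw [← hd, e, map_one]))
  by_cases hd2 : d = r 2
  · exact hcentral k b (hd2 ▸ hd) h ho hc
  obtain ⟨j, rfl⟩ := d8_involution d hd1 hd0 hd2
  set g := k * h * k⁻¹ with hg
  have hgo : Odd (orderOf g) := by rwa [hg, orderOf_conj']
  suffices g = 1 by rwa [hg, conj_eq_one_iff] at this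
  set s := M.ρ (sr j) with hs
  set t := M.ρ (r 2) with ht
  have hgs : g * s = s * g := by
    rw [hg, hd, show k * h * k⁻¹ * (k * b * k⁻¹) = k * (h * b) * k⁻¹ by group, hc]; group
  have htt : t * t = 1 := by rw [ht, ← map_mul]; exact map_one M.ρ
  have hst : t * s = s * t := by rw [ht, hs, ← map_mul, ← map_mul]; congr 1; exact d8_r2_comm _
  have hts : t ≠ s := fun e => absurd (M.ρ_inj e) (by intro e'; cases e')
  set t' := g * t * g⁻¹ with ht'
  have ht't : t' * t' = 1 := by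
    rw [ht', show g * t * g⁻¹ * (g * t * g⁻¹) = g * (t * t) * g⁻¹ by group, htt, mul_one, mul_inv_cancel]
  have ht's : t' * s = s * t' := by
    exact (Commute.mul_left (Commute.mul_left hgs hst) (Commute.inv_left hgs))
  have htinv : t⁻¹ = t := inv_eq_of_mul_eq_one_left htt
  set y := t * t' with hy
  have hyt : t * y * t⁻¹ = y⁻¹ := by
    rw [hy, ← mul_assoc, htt, one_mul, mul_inv_rev, inv_eq_of_mul_eq_one_left ht't]
  have hys : y * s = s * y := Commute.mul_left hst ht's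
  obtain ⟨n, hn⟩ := SCA.exists_odd_pow (orderOf_pos y)
  have hy1 : y ^ 2 ^ n = 1 := M.refl_inverted hn.1 j ((show Commute y s from hys).pow_left _).eq
    (inv_conj_pow hyt _)
  -- the two-group generated by the two conjugates and the reflection
  have hzp : ∀ a : X, a ^ 2 ^ n = 1 ∨ a * a = 1 → IsPGroup 2 (Subgroup.zpowers a) := by
    intro a ha
    obtain ⟨m, hm, hm'⟩ : ∃ m, m ≤ n + 1 ∧ orderOf a = 2 ^ m := by
      refine (Nat.dvd_prime_pow Nat.prime_two).1 (orderOf_dvd_of_pow_eq_one ?_)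
      rcases ha with ha | ha
      · rw [pow_succ, pow_mul, ha, one_pow]
      · rw [pow_succ', pow_mul, pow_two, ha, one_pow]
    exact IsPGroup.of_card (p := 2) (n := m) (by rw [Nat.card_zpowers, hm'])
  have hnorm : ∀ a K, (∀ x ∈ K, a * x * a⁻¹ ∈ K) → a * a = 1 → Subgroup.zpowers a ≤ Subgroup.normalizer ((K : Subgroup X) : Set X) := by
    intro a K hK ha
    rw [Subgroup.zpowers_le, Subgroup.mem_normalizer_iff]
    refine fun x => ⟨hK x, fun hx => ?_⟩
    have := hK _ hx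
    rwa [inv_eq_of_mul_eq_one_left ha, show a * (a * x * a) * a = a * a * x * (a * a) by group, ha, one_mul, mul_one] at this
  have hP1 : IsPGroup 2 (Subgroup.zpowers t ⊔ Subgroup.zpowers y : Subgroup X) := by
    refine (hzp t (Or.inr htt)).to_sup_of_normal_right' (hzp y (Or.inl hy1)) (hnorm t _ (fun x hx => ?_) htt)
    obtain ⟨i, rfl⟩ := hx
    show t * y ^ i * t⁻¹ ∈ _
    rw [← conj_zpow, hyt, inv_zpow]
    exact (Subgroup.zpowers y).inv_mem ⟨i, rfl⟩
  have hcent : ∀ x ∈ (Subgroup.zpowers t ⊔ Subgroup.zpowers y : Subgroup X), s * x * s⁻¹ = x := by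
    have hle : (Subgroup.zpowers t ⊔ Subgroup.zpowers y : Subgroup X) ≤ Subgroup.centralizer ({s} : Set X) :=
      sup_le (Subgroup.zpowers_le.2 (Subgroup.mem_centralizer_singleton_iff.2 hst))
        (Subgroup.zpowers_le.2 (Subgroup.mem_centralizer_singleton_iff.2 hys))
    intro x hx
    rw [← Subgroup.mem_centralizer_singleton_iff.1 (hle hx), mul_inv_cancel_right]
  have hss : s * s = 1 := by rw [hs, ← map_mul]; exact (congrArg M.ρ hd1).trans (map_one _)
  have hP : IsPGroup 2 (Subgroup.zpowers s ⊔ (Subgroup.zpowers t ⊔ Subgroup.zpowers y) : Subgroup X) :=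
    (hzp s (Or.inr hss)).to_sup_of_normal_right' hP1 (hnorm s _ (fun x hx => by rwa [hcent x hx]) hss)
  obtain ⟨q, hq⟩ := M.conj_into hP
  obtain ⟨ds, hds⟩ := hq s (Subgroup.mem_sup_left (Subgroup.mem_zpowers s))
  obtain ⟨dt, hdt⟩ := hq t (Subgroup.mem_sup_right (Subgroup.mem_sup_left (Subgroup.mem_zpowers t)))
  obtain ⟨du, hdu⟩ := hq t' (by
    rw [show t' = t * y by rw [hy, ← mul_assoc, htt, one_mul]]
    exact Subgroup.mul_mem _ (Subgroup.mem_sup_right (Subgroup.mem_sup_left (Subgroup.mem_zpowers t)))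
      (Subgroup.mem_sup_right (Subgroup.mem_sup_right (Subgroup.mem_zpowers y))))
  by_cases hds2 : ds = r 2
  · exact hcentral q s (by rw [← hds, hds2]) g hgo hgs
  have hcj : ∀ {a b : X} {x y : DihedralGroup 4}, M.ρ x = q * a * q⁻¹ → M.ρ y = q * b * q⁻¹ →
      M.ρ (x * y) = q * (a * b) * q⁻¹ := by
    intro a b x y hx hy'
    rw [map_mul, hx, hy']; group
  have hone : ∀ {a : X} {x : DihedralGroup 4}, M.ρ x = q * a * q⁻¹ → (x = 1 ↔ a = 1) := by
    intro a x hx
    rw [← conj_eq_one_iff (a := q) (b := a), ← hx, ← map_one M.ρ, M.ρ_inj.eq_iff]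
  have e1 : ds * ds = 1 := (hone (hcj hds hds)).2 hss
  have e2 : ds ≠ 1 := fun e => hd0 (M.ρ_inj (((hone hds).1 e).trans (map_one M.ρ).symm))
  have hfour : ∀ a x, M.ρ x = q * a * q⁻¹ → a * a = 1 → a * s = s * a → a ≠ 1 → a ≠ s → x = r 2 ∨ x = r 2 * ds := by
    intro a x hx haa has ha1 has'
    have h1 : x * ds = ds * x := M.ρ_inj (by rw [hcj hx hds, hcj hds hx, has])
    rcases Lead.CentDEight.d8_self ds x e1 e2 hds2 h1 with h | h | h | h
    · exact absurd ((hone hx).1 h) ha1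
    · exact Or.inl h
    · exact absurd (mul_left_cancel (mul_right_cancel (hx.symm.trans (h ▸ hds)))) has'
    · exact Or.inr h
  have ht1 : t ≠ 1 := fun e => absurd (M.ρ_inj (e.trans (map_one M.ρ).symm)) (by intro e'; cases e')
  have hu1 : t' ≠ 1 := fun e => ht1 (conj_eq_one_iff.1 e)
  have hus : t' ≠ s := fun e => hts (by
    rw [ht'] at e
    exact mul_left_cancel (mul_right_cancel (e.trans (by rw [hgs, mul_inv_cancel_right] : s = g * s * g⁻¹))))
  refine M.centralizer_central hgo ?_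
  show g * t = t * g
  have hcase : t' = t ∨ t * t' = s := by
    rcases hfour t dt hdt htt hst ht1 hts with h1 | h1 <;> rcases hfour t' du hdu ht't ht's hu1 hus with h2 | h2
    · exact Or.inl (mul_left_cancel (mul_right_cancel (hdu.symm.trans ((congrArg M.ρ (h2.trans h1.symm)).trans hdt))))
    · refine Or.inr (mul_left_cancel (mul_right_cancel ((hcj hdt hdu).symm.trans (Eq.trans ?_ hds))))
      rw [h1, h2, ← mul_assoc, show (r 2 : DihedralGroup 4) * r 2 = 1 from rfl, one_mul]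
    · refine Or.inr (mul_left_cancel (mul_right_cancel ((hcj hdt hdu).symm.trans (Eq.trans ?_ hds))))
      rw [h1, h2]
      exact congrArg M.ρ (d8_r2_prod ds)
    · exact Or.inl (mul_left_cancel (mul_right_cancel (hdu.symm.trans ((congrArg M.ρ (h2.trans h1.symm)).trans hdt))))
  rcases hcase with h1 | h1
  · rw [ht'] at h1
    calc g * t = g * t * g⁻¹ * g := by group
      _ = t * g := by rw [h1]
  · refine comm_of_sq hgo ?_
    have h2 : t' = t * s := by rw [← h1, ← mul_assoc, htt, one_mul]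
    have hsg : g * s * g⁻¹ = s := by rw [hgs, mul_inv_cancel_right]
    rw [ht'] at h2
    calc g * g * t = g * (g * t * g⁻¹) * g⁻¹ * (g * g) := by group
      _ = g * (t * s) * g⁻¹ * (g * g) := by rw [h2]
      _ = (g * t * g⁻¹) * (g * s * g⁻¹) * (g * g) := by group
      _ = t * (g * g) := by rw [h2, hsg, mul_assoc t s s, hss, mul_one]

end Act

end Cfsg.Agent.Local.M24A
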