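import Cfsg.Agent.Lib.Local.M24Abelian.Groups
import Cfsg.Agent.Lib.Local.M24Abelian.Fusion
import Cfsg.Agent.Lib.Local.M24Abelian.Coords
import Cfsg.Agent.Lib.Local.SCAbelian.Final
import Mathlib

/-!
The abelian subgroup of order sixty-four is normal modulo the odd core.
-/

set_option autoImplicit false
set_option linter.style.haveILetI false
set_option linter.unusedSectionVars false
set_option maxRecDepth 100000

namespace Cfsg.Agent.Local.M24A

open Cfsg

universe u

variable {G : Type u} [Group G] [Finite G] {S : Subgroup G} (C : Coord S)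

theorem conj_ASub {y a : G} (hy : y ∈ S) (ha : a ∈ ASub C) : y * a * y⁻¹ ∈ ASub C := by
  obtain ⟨haS, ha64⟩ := ha
  refine ⟨S.mul_mem (S.mul_mem hy haS) (S.inv_mem hy), ?_⟩
  set ys : S := ⟨y, hy⟩
  set as : S := ⟨a, haS⟩
  show C.c (ys * as * ys⁻¹) < 64
  have h1 : C.c (ys * as * ys⁻¹) / 64 = C.c (ys * ys⁻¹) / 64 := by
    rw [C.mul (ys * as), C.mul ys ys⁻¹, (mm_div _ _).1, (mm_div _ _).1, C.mul ys as, (mm_div _ _).1,
      Nat.div_eq_of_lt ha64]
    have := (small_facts.2.2 ⟨C.c ys / 64, by have := C.lt ys; omega⟩).1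
    simp only at this
    rw [this]
  rw [mul_inv_cancel, C.one] at h1
  omega

theorem le_normalizer : S ≤ Subgroup.normalizer (ASub C : Set G) := by
  intro y hy
  refine Subgroup.mem_normalizer_iff.2 fun x => ⟨fun hx => conj_ASub C hy hx, fun hx => ?_⟩
  have := conj_ASub C (S.inv_mem hy) hx
  rwa [show y⁻¹ * (y * x * y⁻¹) * y⁻¹⁻¹ = x by group] at this

/-- the conjugation action on the abelian subgroup, in codes -/
theorem code_conj (y : S) {a : G} (ha : a ∈ ASub C) (h : (y : G) * a * (y : G)⁻¹ ∈ ASub C) :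
    C.c ⟨(y : G) * a * (y : G)⁻¹, ASub_le C h⟩ = act (C.c y / 64) (C.c ⟨a, ASub_le C ha⟩) := by
  set as : S := ⟨a, ASub_le C ha⟩
  set bs : S := ⟨(y : G) * a * (y : G)⁻¹, ASub_le C h⟩
  have ha64 : C.c as < 64 := (mem_ASub C as).1 ha
  have hb64 : C.c bs < 64 := (mem_ASub C bs).1 h
  have h1 : bs * y = y * as := Subtype.ext (show (y : G) * a * (y : G)⁻¹ * y = y * a by group)
  have h2 := congrArg C.c h1
  rw [C.mul, C.mul, mm_left hb64 (C.lt y), mm_right ha64 (C.lt y)] at h2
  have h3 : C.c bs ^^^ C.c y % 64 = C.c y % 64 ^^^ act (C.c y / 64) (C.c as) := by omega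
  rw [Nat.xor_comm (C.c y % 64)] at h3
  exact Nat.xor_left_inj.1 h3

theorem cond_autOn (T : Sylow 2 G) (hTS : (T : Subgroup G) = S) : SCA.Cond (SCA.autOn (ASub C)) := by
  haveI : Fact (Nat.Prime 2) := ⟨Nat.prime_two⟩
  set A := ASub C with hA
  set N : Subgroup G := Subgroup.normalizer (A : Set G) with hN
  have hSN : S ≤ N := le_normalizer C
  let f := (Subgroup.normalizerMonoidHom A).rangeRestrict
  have hsurjU : ∀ d : DihedralGroup 4, ∃ y : S, C.c y = 64 * (dcode d).val :=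
    fun d => C.surj _ (by have := (dcode d).isLt; omega)
  choose σ hσ using hsurjU
  have hmm : ∀ u w : Fin 8, mm (64 * u.val) (64 * w.val) = 64 * pu u.val w.val := by decide +kernel
  have hσmul : ∀ d e, σ (d * e) = σ d * σ e := fun d e => C.inj (by
    rw [C.mul, hσ, hσ, hσ, hmm, dcode_mul])
  let σ' : DihedralGroup 4 →* N := MonoidHom.mk' (fun d => ⟨σ d, hSN (σ d).2⟩)
    fun d e => Subtype.ext (congrArg (fun z : S => (z : G)) (hσmul d e))
  let ρ : DihedralGroup 4 →* SCA.autOn A := f.comp σ'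
  have hA0 : ∀ a : A, (⟨(a : G), hSN (ASub_le C a.2)⟩ : N) ∈ f.ker := fun a => by
    refine Subtype.ext (MulEquiv.ext fun b => Subtype.ext ?_)
    show (a : G) * b * (a : G)⁻¹ = b
    rw [ASub_comm a.2 b.2, mul_inv_cancel_right]
  have hrange : ∀ y : S, f ⟨(y : G), hSN y.2⟩ ∈ ρ.range := by
    intro y
    obtain ⟨d, hd⟩ := dcode_bij.2 ⟨C.c y / 64, by have := C.lt y; omega⟩
    have hd' : (dcode d).val = C.c y / 64 := congrArg Fin.val hd
    obtain ⟨a, ha⟩ := C.surj (C.c y % 64) (by omega)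
    have ha64 : C.c a < 64 := by rw [ha]; exact Nat.mod_lt _ (by norm_num)
    have hy : y = a * σ d := C.inj (by
      rw [C.mul, hσ, ha, hd', mm_left (Nat.mod_lt _ (by norm_num)) (by have := C.lt y; omega),
        Nat.mul_mod_right, Nat.mul_div_cancel_left _ (by norm_num), Nat.xor_zero]
      omega)
    refine ⟨d, ?_⟩
    have hk : f ⟨(a : G), hSN a.2⟩ = 1 := hA0 ⟨a, (mem_ASub C a).2 ha64⟩
    have : (⟨(y : G), hSN y.2⟩ : N) = ⟨(a : G), hSN a.2⟩ * σ' d := Subtype.ext (congrArg (fun z : S => (z : G)) hy)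
    rw [this, map_mul, hk, one_mul]
    rfl
  let M : Act (SCA.autOn A) A :=
    { c := fun v => C.c ⟨v, ASub_le C v.2⟩
      lt := fun v => (mem_ASub C _).1 v.2
      inj := fun v w e => Subtype.ext (congrArg (fun z : S => (z : G)) (C.inj e))
      surj := fun x hx => by
        obtain ⟨s, hs⟩ := C.surj x (by omega)
        exact ⟨⟨s, (mem_ASub C s).2 (hs.symm ▸ hx)⟩, hs⟩
      add := fun v w => by
        show C.c (⟨(v : G), ASub_le C v.2⟩ * ⟨(w : G), ASub_le C w.2⟩) = _
        rw [C.mul, mm_left ((mem_ASub C _).1 v.2) (C.lt _), Nat.div_eq_of_lt ((mem_ASub C _).1 w.2),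
          Nat.mod_eq_of_lt ((mem_ASub C _).1 w.2), Nat.mul_zero, Nat.add_zero]
      φ := (SCA.autOn A).subtype
      φ_inj := Subgroup.subtype_injective _
      ρ := ρ
      hφρ := fun d v => by
        have h := code_conj C (σ d) v.2 (conj_ASub C (σ d).2 v.2)
        rw [hσ, Nat.mul_div_cancel_left _ (by norm_num : 0 < 64)] at h
        exact h
      sylow := by
        have hTN : (T : Subgroup G) ≤ N := hTS ▸ hSN
        refine ⟨(T.subtype hTN).mapSurjective (f := f) (Subgroup.normalizerMonoidHom A).rangeRestrict_surjective, ?_⟩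
        show ((T.subtype hTN : Sylow 2 N) : Subgroup N).map f = ρ.range
        refine le_antisymm ?_ ?_
        · rintro _ ⟨n, hn, rfl⟩
          have hnS : (n : G) ∈ S := hTS ▸ hn
          exact hrange ⟨n, hnS⟩
        · rintro _ ⟨d, rfl⟩
          refine ⟨σ' d, ?_, rfl⟩
          show ((σ' d : N) : G) ∈ (T : Subgroup G)
          rw [hTS]
          exact (σ d).2 }
  rcases M.alternatives with h | ⟨h1, h2⟩
  · exact Or.inl h
  have hodd : ∀ α (hα : α ∈ SCA.autOn A), Odd (orderOf α) → Odd (orderOf (⟨α, hα⟩ : SCA.autOn A)) :=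
    fun α hα ho => by rwa [← Subgroup.orderOf_coe]
  refine Or.inr ⟨h1, fun α hα β hβ ho ha hb hb1 hc => ?_, fun α hα ho ha => ?_⟩
  · exact ha (congrArg Subtype.val (M.odd_comm_involution (h := (⟨α, hα⟩ : SCA.autOn A)) (b := ⟨β, hβ⟩) (hodd α hα ho)
      (Subtype.ext hb) (fun e => hb1 (congrArg Subtype.val e)) (Subtype.ext hc)))
  · have h3 := h2 ⟨α, hα⟩ (hodd α hα ho) fun e => ha (congrArg Subtype.val e)
    rw [ASub_card]
    exact Nat.mul_le_mul_right 16 h3

theorem ASub_elemAb : Cfsg.IsElementaryAbelian 2 (ASub C) :=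
  ⟨⟨⟨fun a b => Subtype.ext (ASub_comm a.2 b.2)⟩⟩, fun a ha => by rw [pow_two, ASub_sq ha]⟩

theorem ASub_normal (hO : oddCore G = ⊥) (T : Sylow 2 G) (hTS : (T : Subgroup G) = S)
    (huniq : ∀ B : Subgroup G, B ≤ S → IsMulCommutative B → Nat.card B = 64 → B = ASub C) :
    (ASub C).Normal := by
  haveI : Finite S := inferInstance
  have h := SCA.normal_sup_oddCore (ASub_elemAb C) ⟨T, ASub_stronglyClosed T hTS huniq⟩ (cond_autOn C T hTS)
  rwa [hO, sup_bot_eq] at h

/-- the unique abelian subgroup of order sixty-four of a Sylow subgroup of this type is normal -/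
theorem normal_of_type (hO : oddCore G = ⊥) (T : Sylow 2 G) (P : Sylow 2 M24)
    (e : Nonempty (↥(T : Subgroup G) ≃* (↥(P : Subgroup M24) ⧸ Subgroup.center ↥(P : Subgroup M24))))
    (A : Subgroup G) (huniq : ∀ B : Subgroup G, B ≤ (T : Subgroup G) → IsMulCommutative B → Nat.card B = 64 → B = A) :
    A.Normal := by
  obtain ⟨e⟩ := e
  obtain ⟨C₀⟩ := exists_coord P
  let C : Coord (T : Subgroup G) := C₀.ofEquiv e
  have hA : ASub C = A :=
    huniq _ (ASub_le C) (ASub_elemAb C).1 ASub_card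
  subst hA
  exact ASub_normal C hO T rfl huniq

end Cfsg.Agent.Local.M24A
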