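import Cfsg.Agent.Lib.Local.M24Abelian.Check
import Cfsg.Agent.Lib.Local.M24Abelian.Criteria
import Mathlib

/-!
Reading the checker in a group with coordinates.
-/

set_option autoImplicit false
set_option linter.style.haveILetI false

namespace Cfsg.Agent.Local.M24A

open Cfsg Cfsg.FusionSystem Cfsg.Agent.Fusion Cfsg.Agent.Local.FS

theorem testBit_maskOf : ∀ {l : List ℕ} {a : ℕ}, (maskOf l).testBit a = true ↔ a ∈ l
  | [], a => by simp [maskOf]
  | b :: l, a => by
    rw [maskOf, Nat.testBit_or, Bool.or_eq_true, testBit_maskOf, Nat.testBit_two_pow, List.mem_cons, decide_eq_true_iff,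
      eq_comm]

theorem not_testBit {l : List ℕ} {a : ℕ} (h : (!(maskOf l).testBit a) = true) : a ∉ l := fun ha => by
  rw [testBit_maskOf.2 ha] at h
  exact absurd h (by decide)

theorem maskOf_lt {n : ℕ} : ∀ {l : List ℕ}, (∀ a ∈ l, a < n) → maskOf l < 2 ^ n
  | [], _ => Nat.two_pow_pos n
  | a :: l, h => Nat.or_lt_two_pow (Nat.pow_lt_pow_right (by norm_num) (h a (by simp)))
      (maskOf_lt fun b hb => h b (List.mem_cons_of_mem a hb))

theorem small_facts : (∀ x : Fin 64, act 0 x.val = x.val) ∧ (∀ u : Fin 8, act u.val 0 = 0) ∧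
    (∀ u : Fin 8, pu u.val 0 = u.val ∧ pu 0 u.val = u.val) := by decide +kernel

theorem xor_lt64 {x y : ℕ} (hx : x < 64) (hy : y < 64) : x ^^^ y < 64 :=
  Nat.xor_lt_two_pow (n := 6) hx hy

theorem mm_left {x g : ℕ} (hx : x < 64) (hg : g < 512) : mm x g = (x ^^^ g % 64) + 64 * (g / 64) := by
  have h1 := small_facts.1 ⟨g % 64, Nat.mod_lt _ (by norm_num)⟩
  have h2 := (small_facts.2.2 ⟨g / 64, by omega⟩).2
  simp only at h1 h2
  rw [mm, Nat.mod_eq_of_lt hx, Nat.div_eq_of_lt hx, h1, h2]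

theorem mm_right {x g : ℕ} (hx : x < 64) (hg : g < 512) :
    mm g x = (g % 64 ^^^ act (g / 64) x) + 64 * (g / 64) := by
  have h2 := (small_facts.2.2 ⟨g / 64, by omega⟩).1
  simp only at h2
  rw [mm, Nat.mod_eq_of_lt hx, Nat.div_eq_of_lt hx, h2]

theorem spanL_lt : ∀ {l : List ℕ}, (∀ b ∈ l, b < 64) → ∀ x ∈ spanL l, x < 64
  | [], _, x, hx => by simp [spanL] at hx; omega
  | b :: l, h, x, hx => by
    rw [spanL, List.mem_append] at hx
    rcases hx with hx | hx
    · exact spanL_lt (fun c hc => h c (List.mem_cons_of_mem b hc)) x hx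
    · obtain ⟨i, hi, rfl⟩ := List.mem_map.1 hx
      exact xor_lt64 (h b (by simp)) (spanL_lt (fun c hc => h c (List.mem_cons_of_mem b hc)) i hi)

theorem zero_mem_spanL : ∀ {l : List ℕ}, 0 ∈ spanL l
  | [] => by simp [spanL]
  | b :: l => by rw [spanL, List.mem_append]; exact Or.inl zero_mem_spanL

theorem mem_spanL_of_mem : ∀ {l : List ℕ}, ∀ b ∈ l, b ∈ spanL l
  | b :: l, c, hc => by
    rw [spanL, List.mem_append, List.mem_map]
    rcases List.mem_cons.1 hc with rfl | hc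
    · exact Or.inr ⟨0, zero_mem_spanL, Nat.xor_zero _⟩
    · exact Or.inl (mem_spanL_of_mem c hc)

universe u

variable {G : Type u} [Group G] {S R : Subgroup G} (C : Coord S)

theorem Coord.inv_code (x : S) : C.c x⁻¹ = ivm (C.c x) := by
  obtain ⟨h0, hlt⟩ := ivm_ok _ (C.lt x)
  obtain ⟨s, hs⟩ := C.surj _ hlt
  have h1 : s * x = 1 := C.inj (by rw [C.mul, hs, h0, C.one])
  rw [← eq_inv_of_mul_eq_one_left h1, hs]

/-- the codes of the elements of `R` -/
def cset (R : Subgroup G) (g : ℕ) : Prop := ∃ x : S, (x : G) ∈ R ∧ C.c x = g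

theorem cset_lt {g : ℕ} (h : cset C R g) : g < 512 := by
  obtain ⟨x, -, rfl⟩ := h
  exact C.lt x

theorem cset_zero : cset C R 0 := ⟨1, R.one_mem, C.one⟩

theorem cset_mm {g h : ℕ} (hg : cset C R g) (hh : cset C R h) : cset C R (mm g h) := by
  obtain ⟨x, hx, rfl⟩ := hg
  obtain ⟨y, hy, rfl⟩ := hh
  exact ⟨x * y, R.mul_mem hx hy, C.mul x y⟩

theorem cset_xor {x y : ℕ} (hx : cset C R x) (hy : cset C R y) (hx' : x < 64) (hy' : y < 64) :
    cset C R (x ^^^ y) := by
  have := cset_mm C hx hy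
  rwa [mm_left hx' (by omega), Nat.mod_eq_of_lt hy', Nat.div_eq_of_lt hy', Nat.mul_zero, Nat.add_zero] at this

theorem cset_act {g i : ℕ} (hg : cset C R g) (hi : cset C R i) (hi' : i < 64) : cset C R (act (g / 64) i) := by
  obtain ⟨x, hx, rfl⟩ := hg
  obtain ⟨y, hy, rfl⟩ := hi
  obtain ⟨s, hs⟩ := C.surj (act (C.c x / 64) (C.c y)) (by have := act_lt (C.c x / 64) (C.c y); omega)
  refine ⟨s, ?_, hs⟩
  have h1 : x * y = s * x := C.inj (by
    rw [C.mul, C.mul, hs, mm_left (act_lt _ _) (C.lt x), mm_right hi' (C.lt x), Nat.xor_comm])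
  have h2 : (s : G) = x * y * (x : G)⁻¹ := by
    rw [eq_mul_inv_iff_mul_eq]
    exact congrArg Subtype.val h1.symm
  rw [h2]
  exact R.mul_mem (R.mul_mem hx hy) (R.inv_mem hx)

/-- `el` lists the codes of `R` and `gens` codes of generators. -/
structure Data (R : Subgroup G) (el gens : List ℕ) : Prop where
  le : R ≤ S
  mem : ∀ g, g ∈ el ↔ cset C R g
  gens_mem : ∀ g ∈ gens, cset C R g
  top : R = Subgroup.closure {x : G | x ∈ R ∧ ∃ h : x ∈ S, C.c ⟨x, h⟩ ∈ gens}

variable {C} {el gens : List ℕ}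

theorem Data.mem_iff (hD : Data C R el gens) (x : S) : C.c x ∈ el ↔ (x : G) ∈ R := by
  rw [hD.mem]
  exact ⟨fun ⟨y, hy, e⟩ => C.inj e ▸ hy, fun h => ⟨x, h, rfl⟩⟩

theorem Data.lift (hD : Data C R el gens) {g : ℕ} (hg : g ∈ el) : ∃ x : S, (x : G) ∈ R ∧ C.c x = g :=
  (hD.mem g).1 hg

theorem Data.gen_el (hD : Data C R el gens) {g : ℕ} (hg : g ∈ gens) : g ∈ el :=
  (hD.mem g).2 (hD.gens_mem g hg)

theorem com_iff (x y : S) : com (C.c x) (C.c y) = true ↔ (x : G) * y = y * x := by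
  rw [com, beq_iff_eq, ← C.mul, ← C.mul, C.inj.eq_iff, Subtype.ext_iff]
  rfl

theorem not_com_iff (x y : S) : (!com (C.c x) (C.c y)) = true ↔ (x : G) * y ≠ y * x := by
  rw [Bool.not_eq_true', ← Bool.not_eq_true, com_iff]

theorem cjm_code (h x : S) : cjm (C.c h) (C.c x) = C.c (h * x * h⁻¹) := by
  rw [cjm, C.mul, C.mul, C.inv_code]

theorem dl_code (h x : S) : dl (C.c h) (C.c x) = C.c (x⁻¹ * (h * x * h⁻¹)) := by
  rw [dl, cjm_code, C.mul x⁻¹, C.inv_code]

theorem cm_code (x y : S) : cm (C.c x) (C.c y) = C.c (x * y * x⁻¹ * y⁻¹) := by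
  rw [cm, cjm_code, C.mul _ y⁻¹, C.inv_code]

theorem sq_iff (x : S) : (mm (C.c x) (C.c x) == 0) = true ↔ (x : G) * x = 1 := by
  rw [beq_iff_eq, ← C.mul, ← C.one, C.inj.eq_iff, Subtype.ext_iff]
  rfl

theorem fix_iff (h x : S) : (cjm (C.c h) (C.c x) == C.c x) = true ↔ (h : G) * x * (h : G)⁻¹ = x := by
  rw [beq_iff_eq, cjm_code, C.inj.eq_iff, Subtype.ext_iff]
  rfl

theorem Data.central_of_cenB (hD : Data C R el gens) {x : S} (h : cenB gens (C.c x) = true) :
    ∀ y ∈ R, (x : G) * y = y * x := by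
  intro y hy
  rw [hD.top] at hy
  induction hy using Subgroup.closure_induction with
  | mem y hy =>
    obtain ⟨-, hyS, hg⟩ := hy
    exact (com_iff x ⟨y, hyS⟩).1 (List.all_eq_true.1 h _ hg)
  | one => simp
  | mul a b _ _ iha ihb => rw [← mul_assoc, iha, mul_assoc, ihb, mul_assoc]
  | inv a _ iha => exact (Commute.inv_right (show Commute (x : G) a from iha)).eq

theorem Data.cenB_of_central (hD : Data C R el gens) {x : S} (h : ∀ y ∈ R, (x : G) * y = y * x) :
    cenB gens (C.c x) = true := by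
  rw [cenB, List.all_eq_true]
  intro g hg
  obtain ⟨y, hy, rfl⟩ := hD.gens_mem g hg
  exact (com_iff x y).2 (h y hy)

theorem Data.normB_spec [Finite G] (hD : Data C R el gens) {h : ℕ} (hb : normB (maskOf el) gens h = true) :
    ∃ a : S, C.c a = h ∧ (a : G) ∉ R ∧ (a : G) ∈ Subgroup.normalizer (R : Set G) := by
  simp only [normB, Bool.and_eq_true, decide_eq_true_iff, List.all_eq_true] at hb
  obtain ⟨⟨hlt, hout⟩, hn⟩ := hb
  obtain ⟨a, rfl⟩ := C.surj h hlt
  refine ⟨a, rfl, fun ha => not_testBit hout ((hD.mem_iff a).2 ha), mem_normalizer_of_cj_le ?_⟩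
  conv_lhs => rw [hD.top]
  rw [cj, MonoidHom.map_closure, Subgroup.closure_le]
  rintro _ ⟨y, ⟨-, hyS, hg⟩, rfl⟩
  have h1 := testBit_maskOf.1 (hn _ hg)
  rw [cjm_code, hD.mem_iff] at h1
  exact h1

/-- The elements whose centraliser in `R` has index at most two. -/
def Big (R : Subgroup G) (x : G) : Prop :=
  x ∈ R ∧ ∀ y ∈ R, ∀ z ∈ R, x * y ≠ y * x → x * z ≠ z * x → x * (y * z⁻¹) = y * z⁻¹ * x

theorem Data.big_of_bigB (hD : Data C R el gens) {p : ℕ × ℕ} (h : bigB el p = true) :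
    ∃ x : S, C.c x = p.1 ∧ Big R (x : G) := by
  simp only [bigB, Bool.and_eq_true, List.all_eq_true, List.contains_iff_mem] at h
  obtain ⟨⟨h1, h2⟩, h3⟩ := h
  obtain ⟨x, hx, hx1⟩ := hD.lift h1
  obtain ⟨w, hw, hw2⟩ := hD.lift h2
  refine ⟨x, hx1, hx, fun y hy z hz hxy hxz => ?_⟩
  have key : ∀ y ∈ R, (x : G) * y ≠ y * x → Commute (x : G) (y * w) := by
    intro y hy hxy
    have h4 := h3 _ ((hD.mem_iff ⟨y, hD.le hy⟩).2 hy)
    rw [← hx1, ← hw2, Bool.or_eq_true, com_iff, ← C.mul, com_iff] at h4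
    rcases h4 with h4 | h4
    · exact absurd h4 hxy
    · exact h4
  have h5 := (key y hy hxy).mul_right (key z hz hxz).inv_right
  rw [show y * (w : G) * (z * w)⁻¹ = y * z⁻¹ by group] at h5
  exact h5.eq

theorem Data.not_big_of_smallB (hD : Data C R el gens) {pairs : List (ℕ × ℕ)} {x : S}
    (h : smallB el pairs (C.c x) = true) : ¬ Big R (x : G) := by
  simp only [smallB, List.any_eq_true, Bool.and_eq_true, List.contains_iff_mem] at h
  obtain ⟨p, -, ⟨⟨⟨h1, h2⟩, h3⟩, h4⟩, h5⟩ := h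
  obtain ⟨y, hy, hy1⟩ := hD.lift h1
  obtain ⟨z, hz, hz1⟩ := hD.lift h2
  rw [← hy1, not_com_iff] at h3
  rw [← hz1, not_com_iff] at h4
  rw [← hy1, ← hz1, ← C.inv_code, ← C.mul, not_com_iff] at h5
  exact fun hb => h5 (hb.2 y hy z hz h3 h4)

/-- commutators with the elements of `Big` -/
def BigComm (R : Subgroup G) : Set G := {c | ∃ x, Big R x ∧ ∃ y ∈ R, c = x * y * x⁻¹ * y⁻¹}

theorem bigComm_subset : BigComm R ⊆ R := by
  rintro _ ⟨x, hx, y, hy, rfl⟩
  exact R.mul_mem (R.mul_mem (R.mul_mem hx.1 hy) (R.inv_mem hx.1)) (R.inv_mem hy)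

theorem av_hom (α : MulAut R) {x y : G} (hx : x ∈ R) (hy : y ∈ R) :
    av α (x * y) = av α x * av α y ∧ av α x⁻¹ = (av α x)⁻¹ := by
  rw [av_apply α hx, av_apply α hy, av_apply α (R.mul_mem hx hy), av_apply α (R.inv_mem hx)]
  exact ⟨congrArg Subtype.val (map_mul α ⟨x, hx⟩ ⟨y, hy⟩), congrArg Subtype.val (map_inv α ⟨x, hx⟩)⟩

theorem av_comm_iff (α : MulAut R) {x y : G} (hx : x ∈ R) (hy : y ∈ R) :
    av α x * y = y * av α x ↔ x * av α⁻¹ y = av α⁻¹ y * x := by
  have hy' : av α⁻¹ y ∈ R := av_mem _ hy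
  constructor
  · intro h
    have h1 := congrArg (av α⁻¹) h
    rw [(av_hom α⁻¹ (av_mem α hx) hy).1, (av_hom α⁻¹ hy (av_mem α hx)).1, av_inv_av α hx] at h1
    exact h1
  · intro h
    have h1 := congrArg (av α) h
    rw [(av_hom α hx hy').1, (av_hom α hy' hx).1, av_av_inv α hy] at h1
    exact h1

theorem big_invariant (α : MulAut R) {x : G} (h : Big R x) : Big R (av α x) := by
  refine ⟨av_mem α h.1, fun y hy z hz h1 h2 => ?_⟩
  rw [Ne, av_comm_iff α h.1 hy] at h1
  rw [Ne, av_comm_iff α h.1 hz] at h2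
  have hy' : av α⁻¹ y ∈ R := av_mem _ hy
  have hz' : av α⁻¹ z ∈ R := av_mem _ hz
  rw [av_comm_iff α h.1 (R.mul_mem hy (R.inv_mem hz)), (av_hom α⁻¹ hy (R.inv_mem hz)).1, (av_hom α⁻¹ hz hz).2]
  exact h.2 _ hy' _ hz' h1 h2

theorem bigComm_invariant (α : MulAut R) {c : G} (h : c ∈ BigComm R) : av α c ∈ BigComm R := by
  obtain ⟨x, hx, y, hy, rfl⟩ := h
  refine ⟨av α x, big_invariant α hx, av α y, av_mem α hy, ?_⟩
  rw [(av_hom α (R.mul_mem (R.mul_mem hx.1 hy) (R.inv_mem hx.1)) (R.inv_mem hy)).1,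
    (av_hom α (R.mul_mem hx.1 hy) (R.inv_mem hx.1)).1, (av_hom α hx.1 hy).1, (av_hom α hx.1 hx.1).2,
    (av_hom α hy hy).2]

/-- the involutions central in `R`, with one -/
def CenInvol (R : Subgroup G) : Set G := {x | x ∈ R ∧ x * x = 1 ∧ ∀ y ∈ R, x * y = y * x}

theorem cenInvol_invariant (α : MulAut R) {x : G} (h : x ∈ CenInvol R) : av α x ∈ CenInvol R := by
  obtain ⟨hx, h2, hc⟩ := h
  refine ⟨av_mem α hx, ?_, fun y hy => (av_comm_iff α hx hy).2 (hc _ (av_mem _ hy))⟩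
  rw [← (av_hom α hx hx).1, h2, av_apply α R.one_mem, show (⟨1, R.one_mem⟩ : R) = 1 from rfl, map_one]
  rfl

variable [Finite G] [Finite S] {F : FusionSystem S}

omit [Finite G] in
/-- An element stabilising the centre's involutions lies in an essential subgroup. -/
theorem mem_of_cenInvol (hS : IsPGroup 2 S) (hF : F.IsSaturated 2) (hE : F.IsEssential 2 R) {gs : Set G}
    (hgs : R = Subgroup.closure gs) {a : G} (ha : a ∈ S) (han : a ∈ Subgroup.normalizer (R : Set G))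
    (hfix : ∀ x ∈ CenInvol R, a * x * a⁻¹ = x) (hmove : ∀ x ∈ gs, x⁻¹ * (a * x * a⁻¹) ∈ CenInvol R) : a ∈ R := by
  haveI : Fact (Nat.Prime 2) := ⟨Nat.prime_two⟩
  obtain ⟨hC, hRad⟩ := gen_centric_radical hS hF (Or.inr hE)
  set D := Subgroup.closure (CenInvol R)
  have hDR : D ≤ R := (Subgroup.closure_le _).2 fun x hx => hx.1
  have hinv := closure_invariant (R := R) (s := CenInvol R) (fun x hx => hx.1) fun α x hx => cenInvol_invariant α hx
  have hfixD : ∀ x ∈ D, a * x * a⁻¹ = x := by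
    intro x hx
    induction hx using Subgroup.closure_induction with
    | mem y hy => exact hfix y hy
    | one => group
    | mul y z _ _ ihy ihz => rw [← conj_mul, ihy, ihz]
    | inv y _ ihy => rw [← conj_inv, ihy]
  refine mem_of_layers hS hC hRad D D le_rfl hDR hinv hinv ha han hfixD (fun x hx => ?_) ?_
  · rw [hfixD x hx, inv_mul_cancel]; exact D.one_mem
  · exact layer_of_generators hgs (conj_mem_of_invariant hDR hinv) han fun x hx => Subgroup.subset_closure (hmove x hx)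

/-- A passed certificate excludes an essential subgroup. -/
theorem Data.false_of_ok (hS : IsPGroup 2 S) (hF : F.IsSaturated 2) (hE : F.IsEssential 2 R)
    (hD : Data C R el gens) {ct : Cert} (hok : ct.ok el gens = true) : False := by
  haveI : Fact (Nat.Prime 2) := ⟨Nat.prime_two⟩
  have hRS := hD.le
  cases ct with
  | bad a b =>
    simp only [Cert.ok, Bool.and_eq_true, List.contains_iff_mem] at hok
    obtain ⟨⟨h1, h2⟩, h3⟩ := hok
    exact not_testBit h3 ((hD.mem _).2 (cset_mm C ((hD.mem a).1 h1) (hD.gens_mem b h2)))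
  | nc h =>
    simp only [Cert.ok, Bool.and_eq_true, decide_eq_true_iff] at hok
    obtain ⟨⟨h1, h2⟩, h3⟩ := hok
    obtain ⟨a, rfl⟩ := C.surj h h1
    refine not_testBit h2 ((hD.mem_iff a).2 ?_)
    exact hE.1.2 R (isConj_refl hRS) (mem_centralizerIn.2 ⟨a.2, fun x hx => (hD.central_of_cenB h3 x hx).symm⟩)
  | oz h =>
    simp only [Cert.ok, Bool.and_eq_true, List.all_eq_true] at hok
    obtain ⟨⟨h1, h2⟩, h3⟩ := hok
    obtain ⟨a, rfl, haR, han⟩ := hD.normB_spec h1
    refine haR (mem_of_cenInvol hS hF hE hD.top a.2 han ?_ ?_)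
    · rintro x ⟨hx, hx2, hxc⟩
      have h4 := h3 _ ((hD.mem_iff ⟨x, hRS hx⟩).2 hx)
      rw [(sq_iff (C := C) ⟨x, hRS hx⟩).2 hx2, hD.cenB_of_central (x := ⟨x, hRS hx⟩) hxc] at h4
      exact (fix_iff a ⟨x, hRS hx⟩).1 (by simpa using h4)
    · rintro x ⟨-, hxS, hg⟩
      obtain ⟨⟨h4, h5⟩, h6⟩ := h2 _ hg
      rw [dl_code] at h4 h5 h6
      exact ⟨(hD.mem_iff _).1 (testBit_maskOf.1 h4), (sq_iff _).1 h5, hD.central_of_cenB h6⟩
  | ctr a b c =>
    simp only [Cert.ok, Bool.and_eq_true, List.all_eq_true] at hok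
    obtain ⟨⟨⟨⟨⟨⟨⟨⟨hel, ha⟩, hb⟩, hab⟩, hc⟩, ta⟩, tb⟩, tab⟩, hall⟩ := hok
    obtain ⟨qa, rfl, haR, han⟩ := hD.normB_spec ha
    obtain ⟨qb, rfl, hbR, hbn⟩ := hD.normB_spec hb
    obtain ⟨qc, hqc, hcR, hcn⟩ := hD.normB_spec hab
    obtain ⟨cc, hcc, rfl⟩ := hD.lift (testBit_maskOf.1 hc)
    rw [elemB, List.all_eq_true] at hel
    have hcomm : ∀ x ∈ R, ∀ y ∈ R, x * y = y * x := fun x hx y hy => by
      have h1 := hel _ ((hD.mem_iff ⟨x, hRS hx⟩).2 hx)
      rw [Bool.and_eq_true] at h1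
      exact hD.central_of_cenB h1.2 y hy
    rw [← hqc] at tab hall
    have htv : ∀ (q : S), tvB el (C.c q) (C.c cc) = true → ∀ x ∈ R,
        (q : G) * x * (q : G)⁻¹ = x ∨ (q : G) * x * (q : G)⁻¹ = x * (cc : G) := by
      intro q hq x hx
      rw [tvB, List.all_eq_true] at hq
      have h1 := hq _ ((hD.mem_iff ⟨x, hRS hx⟩).2 hx)
      rw [Bool.or_eq_true, fix_iff, beq_iff_eq, cjm_code, ← C.mul, C.inj.eq_iff] at h1
      rcases h1 with h1 | h1
      · exact Or.inl h1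
      · exact Or.inr (congrArg Subtype.val h1)
    refine not_essential_of_transvections hS hF hE hcomm (ι := Fin 3) ![(qa : G), qb, qc] (fun _ => (cc : G))
      (fun i => by fin_cases i <;> exact Subtype.coe_prop _) (fun i => by fin_cases i <;> assumption)
      (fun i => by fin_cases i <;> assumption) (fun _ => hcc) (fun i => ?_) fun α => ?_
    · fin_cases i
      · exact htv qa ta
      · exact htv qb tb
      · exact htv qc tab
    · have hex : ∀ x ∈ R, ∃ i : Fin 3, (![(qa : G), qb, qc] i) * x * (![(qa : G), qb, qc] i)⁻¹ = x := by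
        intro x hx
        have h1 := hall _ ((hD.mem_iff ⟨x, hRS hx⟩).2 hx)
        rw [Bool.or_eq_true, Bool.or_eq_true, fix_iff, fix_iff, fix_iff] at h1
        rcases h1 with (h1 | h1) | h1
        · exact ⟨0, h1⟩
        · exact ⟨1, h1⟩
        · exact ⟨2, h1⟩
      obtain ⟨i, hi⟩ := hex _ (av_mem α hcc)
      obtain ⟨j, hj⟩ := hex _ (av_mem α⁻¹ hcc)
      exact ⟨i, j, hi, hj⟩
  | axis a b c d =>
    simp only [Cert.ok, Bool.and_eq_true, List.all_eq_true] at hok
    obtain ⟨⟨⟨⟨⟨⟨⟨⟨⟨hel, ha⟩, hb⟩, hab⟩, hc⟩, hd⟩, ta⟩, tb⟩, tab⟩, hall⟩ := hok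
    obtain ⟨qa, rfl, haR, han⟩ := hD.normB_spec ha
    obtain ⟨qb, rfl, hbR, hbn⟩ := hD.normB_spec hb
    obtain ⟨qc, hqc, hcR, hcn⟩ := hD.normB_spec hab
    obtain ⟨cc, hcc, rfl⟩ := hD.lift (testBit_maskOf.1 hc)
    obtain ⟨dd, hdd, rfl⟩ := hD.lift (testBit_maskOf.1 hd)
    rw [elemB, List.all_eq_true] at hel
    have hcomm : ∀ x ∈ R, ∀ y ∈ R, x * y = y * x := fun x hx y hy => by
      have h1 := hel _ ((hD.mem_iff ⟨x, hRS hx⟩).2 hx)
      rw [Bool.and_eq_true] at h1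
      exact hD.central_of_cenB h1.2 y hy
    rw [← hqc] at tab hall
    rw [← C.mul] at tab
    have htv : ∀ (q e : S), tvB el (C.c q) (C.c e) = true → ∀ x ∈ R,
        (q : G) * x * (q : G)⁻¹ = x ∨ (q : G) * x * (q : G)⁻¹ = x * (e : G) := by
      intro q e hq x hx
      rw [tvB, List.all_eq_true] at hq
      have h1 := hq _ ((hD.mem_iff ⟨x, hRS hx⟩).2 hx)
      rw [Bool.or_eq_true, fix_iff, beq_iff_eq, cjm_code, ← C.mul, C.inj.eq_iff] at h1
      rcases h1 with h1 | h1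
      · exact Or.inl h1
      · exact Or.inr (congrArg Subtype.val h1)
    set q : Fin 3 → G := ![(qa : G), qb, qc]
    have hsame : ∀ x ∈ R, ((qa : G) * x * (qa : G)⁻¹ = x → ∀ i, q i * x * (q i)⁻¹ = x) ∧
        ∀ y ∈ R, (qa : G) * x * (qa : G)⁻¹ ≠ x → (qa : G) * y * (qa : G)⁻¹ ≠ y →
          (qa : G) * (x * y) * (qa : G)⁻¹ = x * y := by
      intro x hx
      have h1 := hall _ ((hD.mem_iff ⟨x, hRS hx⟩).2 hx)
      constructor
      · intro hfx i
        rw [if_pos ((fix_iff qa ⟨x, hRS hx⟩).2 hfx), Bool.and_eq_true, fix_iff, fix_iff] at h1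
        fin_cases i
        · exact hfx
        · exact h1.1
        · exact h1.2
      · intro y hy hfx hfy
        rw [if_neg (fun e => hfx ((fix_iff qa ⟨x, hRS hx⟩).1 e)), Bool.and_eq_true, List.all_eq_true] at h1
        have h2 := h1.2 _ ((hD.mem_iff ⟨y, hRS hy⟩).2 hy)
        rw [Bool.or_eq_true, fix_iff, ← C.mul, fix_iff] at h2
        rcases h2 with h2 | h2
        · exact absurd h2 hfy
        · exact h2
    refine not_essential_of_transvections hS hF hE hcomm (ι := Fin 3) q ![(cc : G), dd, cc * dd]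
      (fun i => by fin_cases i <;> exact Subtype.coe_prop _) (fun i => by fin_cases i <;> assumption)
      (fun i => by fin_cases i <;> assumption)
      (fun i => by fin_cases i <;> first | exact hcc | exact hdd | exact R.mul_mem hcc hdd) (fun i => ?_) fun α => ?_
    · fin_cases i
      · exact htv qa cc ta
      · exact htv qb dd tb
      · exact htv qc (cc * dd) tab
    · have hex : ∀ β : MulAut R, ∃ j : Fin 3, ∀ i, q i * av β (![(cc : G), dd, cc * dd] j) * (q i)⁻¹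
          = av β (![(cc : G), dd, cc * dd] j) := by
        intro β
        by_cases h1 : (qa : G) * av β (cc : G) * (qa : G)⁻¹ = av β (cc : G)
        · exact ⟨0, (hsame _ (av_mem β hcc)).1 h1⟩
        by_cases h2 : (qa : G) * av β (dd : G) * (qa : G)⁻¹ = av β (dd : G)
        · exact ⟨1, (hsame _ (av_mem β hdd)).1 h2⟩
        · refine ⟨2, ?_⟩
          show ∀ i, q i * av β ((cc : G) * dd) * (q i)⁻¹ = av β ((cc : G) * dd)
          rw [(av_hom β hcc hdd).1]
          exact (hsame _ (R.mul_mem (av_mem β hcc) (av_mem β hdd))).1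
            ((hsame _ (av_mem β hcc)).2 _ (av_mem β hdd) h1 h2)
      obtain ⟨j, hj⟩ := hex α
      obtain ⟨i, hi⟩ := hex α⁻¹
      exact ⟨i, j, hj i, hi j⟩
  | big h pairs bigs dc =>
    simp only [Cert.ok, Bool.and_eq_true, List.all_eq_true, Bool.or_eq_true, List.contains_iff_mem] at hok
    obtain ⟨⟨⟨h1, hbig⟩, hdc⟩, hel, hgen⟩ := hok
    obtain ⟨a, rfl, haR, han⟩ := hD.normB_spec h1
    obtain ⟨hC, hRad⟩ := gen_centric_radical hS hF (Or.inr hE)
    set D₁ := Subgroup.closure (BigComm R) with hD₁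
    set D₂ := Subgroup.closure ({x | Big R x} ∪ BigComm R) with hD₂
    have hD2R : D₂ ≤ R := (Subgroup.closure_le _).2 (by
      rintro x (hx | hx)
      · exact hx.1
      · exact bigComm_subset hx)
    have h12 : D₁ ≤ D₂ := Subgroup.closure_mono Set.subset_union_right
    have hi1 := closure_invariant (R := R) bigComm_subset fun α x hx => bigComm_invariant α hx
    have hi2 := closure_invariant (R := R) (s := {x | Big R x} ∪ BigComm R) (by
      rintro x (hx | hx)
      · exact hx.1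
      · exact bigComm_subset hx) fun α x hx => hx.imp (big_invariant α) (bigComm_invariant α)
    have hcode : ∀ g, g ∈ (0 :: dc.map fun p => cm p.1 p.2) → ∀ y : S, C.c y = g → (y : G) ∈ D₁ := by
      intro g hg y hy
      rcases List.mem_cons.1 hg with rfl | hg
      · rw [C.inj (hy.trans C.one.symm)]; exact D₁.one_mem
      · obtain ⟨p, hp, rfl⟩ := List.mem_map.1 hg
        obtain ⟨h4, h5⟩ := hdc p hp
        obtain ⟨q, hq, hq1⟩ := List.mem_map.1 h4
        obtain ⟨x, hx, hxb⟩ := hD.big_of_bigB (hbig q hq)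
        obtain ⟨z, hz, hz1⟩ := hD.lift h5
        rw [hq1] at hx
        have h6 : y = x * z * x⁻¹ * z⁻¹ := C.inj (by rw [← cm_code, hx, hz1]; exact hy)
        refine Subgroup.subset_closure ⟨x, hxb, z, hz, ?_⟩
        rw [h6]; rfl
    have hbigx : ∀ x (hxb : Big R x), (x⁻¹ * ((a : G) * x * (a : G)⁻¹) ∈ D₁) ∧
        ∀ y ∈ R, (a : G) * (x * y * x⁻¹ * y⁻¹) * (a : G)⁻¹ = x * y * x⁻¹ * y⁻¹ := by
      intro x hxb
      set xs : S := ⟨x, hRS hxb.1⟩
      rcases hel _ ((hD.mem_iff xs).2 hxb.1) with h4 | h4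
      · exact absurd hxb (hD.not_big_of_smallB h4)
      refine ⟨hcode _ h4.1 (xs⁻¹ * (a * xs * a⁻¹)) (dl_code a xs).symm, fun y hy => ?_⟩
      have h5 := h4.2 _ ((hD.mem_iff ⟨y, hRS hy⟩).2 hy)
      rw [cm_code, fix_iff] at h5
      exact h5
    have hfix : ∀ x ∈ D₁, (a : G) * x * (a : G)⁻¹ = x := by
      intro x hx
      induction hx using Subgroup.closure_induction with
      | mem y hy =>
        obtain ⟨u, hu, v, hv, rfl⟩ := hy
        exact (hbigx u hu).2 v hv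
      | one => group
      | mul y z _ _ ihy ihz => rw [← conj_mul, ihy, ihz]
      | inv y _ ihy => rw [← conj_inv, ihy]
    have han2 : (a : G) ∈ Subgroup.normalizer (D₂ : Set G) := by
      obtain ⟨β, hβ, -⟩ := exists_aut_conj han
      refine mem_normalizer_of_cj_le ?_
      rintro _ ⟨y, hy, rfl⟩
      show (a : G) * y * (a : G)⁻¹ ∈ D₂
      rw [← hβ y (hD2R hy)]
      exact hi2 β y (hD2R hy) hy
    refine haR (mem_of_layers hS hC hRad D₁ D₂ h12 hD2R hi1 hi2 a.2 han hfix ?_ ?_)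
    · refine layer_of_generators (gs := {x | Big R x} ∪ BigComm R) hD₂
        (fun y hy => conj_mem_of_invariant (h12.trans hD2R) hi1 y (hD2R hy)) han2 ?_
      rintro x (hx | hx)
      · exact (hbigx x hx).1
      · rw [hfix x (Subgroup.subset_closure hx), inv_mul_cancel]; exact D₁.one_mem
    · refine layer_of_generators hD.top (conj_mem_of_invariant hD2R hi2) han ?_
      rintro x ⟨-, hxS, hg⟩
      have h4 := hgen _ hg
      rw [List.mem_append] at h4
      rcases h4 with h4 | h4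
      · exact h12 (hcode _ h4 _ (dl_code a ⟨x, hxS⟩).symm)
      · obtain ⟨q, hq, hq1⟩ := List.mem_map.1 h4
        obtain ⟨y, hy, hyb⟩ := hD.big_of_bigB (hbig q hq)
        have h5 : y = (⟨x, hxS⟩ : S)⁻¹ * (a * ⟨x, hxS⟩ * a⁻¹) := C.inj (by rw [hy, hq1, dl_code])
        refine Subgroup.subset_closure (Or.inl ?_)
        have := congrArg Subtype.val h5
        simp only [Subgroup.coe_mul, Subgroup.coe_inv] at this
        rw [← this]; exact hyb

end Cfsg.Agent.Local.M24A
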